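import Mathlib
import Cfsg.Agent.Base
import Cfsg.Agent.Lib.Nsp.A
import Cfsg.Agent.Lib.Fpf.D2

/-! Anticentral elements: definitions. -/

set_option autoImplicit false
set_option linter.unusedSectionVars false
set_option linter.style.haveILetI false

namespace H50.AN

open Subgroup H69 H68B Cfsg H42.FP
open H1.OA (Cfg)
open H50.NS (M0)
open scoped commutatorElement

universe u

local notation "𝐕(" T ")" => omegaOneCenter 2 T

/-- an anticentral element: its class is its coset modulo the commutator subgroup -/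
def Ac {Γ : Type*} [Group Γ] (a : Γ) : Prop := ∀ x ∈ commutator Γ, ∃ g : Γ, g * a * g⁻¹ = a * x

/-- `Γ = G A` with `G ≤ Γ'` and an anticentral element in the image of `A` -/
structure Am {A G Γ : Type*} [Group A] [Group G] [Group Γ] (φ : A →* MulAut G) (i : G →* Γ)
    (α : A →* Γ) (a : A) : Prop where
  inj : Function.Injective i
  eqv : ∀ b x, i (φ b x) = α b * i x * (α b)⁻¹
  sup : i.range ⊔ α.range = ⊤
  le : i.range ≤ commutator Γ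
  ac : Ac (α a)

/-- the operators come from a group with an anticentral element -/
def AC {A : Type*} {G : Type u} [Group A] [Group G] (φ : A →* MulAut G) : Prop :=
  ∃ (Γ : Type u) (_ : Group Γ) (_ : Finite Γ) (i : G →* Γ) (α : A →* Γ) (a : A), Am φ i α a

/-- operators `A` on the module `V` for `X` -/
structure M2 {G : Type*} [Group G] (V X A : Subgroup G) : Prop extends M0 V X where
  nV : A ≤ 𝐍(V)
  nA : A ≤ 𝐍(X)
  n1 : ∀ (p : ℕ) (Z : Subgroup G), p.Prime → p ≠ 2 → IsPGroup p Z → Z ≤ X → X ≤ 𝐍(Z) → A ≤ 𝐍(Z) →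
    ∀ v ∈ V, (∀ a ∈ A, ∃ g ∈ X, g * a * v * (g * a)⁻¹ = v) → v ∈ 𝐂(Z)
  hom : ∀ (N : Subgroup G) (hX : X ≤ N), A ≤ N → ∀ (p : ℕ) (ρ : N →* (ZMod p)ˣ) (t : G) (ht : t ∈ X),
    ρ ⟨t, hX ht⟩ = 1

/-- the local data at a Sylow 2-subgroup -/
structure Dat3 {A : Type*} {G : Type u} [Group A] [Group G] (φ : A →* MulAut G) (S : Subgroup G) :
    Prop where
  inv : Iv φ S
  hs : ∀ X ≤ S, X ≠ ⊥ → S ≤ 𝐍(X) → Iv φ X → ∀ g ∈ 𝐍(X), ∃ m ∈ 𝐍(ww S), ∀ p ∈ S,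
    g * p * g⁻¹ ∈ S → g * p * g⁻¹ = m * p * m⁻¹
  vg : VG (ww S) S
  ac : AC φ
  inn : ∀ s ∈ S, ∃ a ∈ commutator A, ∀ x, φ a x = s * x * s⁻¹

/-- a set containing a product of two of its elements -/
def Tri {G : Type*} [Group G] (Γ : Set G) : Prop := ∃ x ∈ Γ, ∃ y ∈ Γ, x * y ∈ Γ

/-- the case `q = 2`: `z` generates `[𝐕(Q), B]` and `u ≠ z` is conjugate to `z` in `N(Q)` -/
structure Tw {G : Type*} [Group G] (B Q : Subgroup G) (z u : G) : Prop where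
  cfg : Cfg 2 B 𝐕(B) Q 𝐕(Q)
  cm : ∀ x ∈ 𝐕(Q), x ∉ 𝐕(B) → ∀ b ∈ B, b ∉ Q → ⁅b, x⁆ = z
  zZ : z ∈ 𝐕(B)
  wc : ∀ g ∈ 𝐍(Q), B ^ᶜ g ≤ centralizer {z} → g * z * g⁻¹ = z
  orb : ∃ k ∈ 𝐍(Q), k * z * k⁻¹ = u
  ne : u ≠ z

end H50.AN
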