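import Mathlib
import Cfsg.Agent.Base
import Cfsg.Agent.Lib.Acn.Defs
import Cfsg.Agent.Lib.Fpf.N4

set_option autoImplicit false
set_option linter.unusedSectionVars false
set_option linter.style.haveILetI false

namespace H50.AN

open Subgroup H69 H68B Cfsg H42.FP
open H1.OA (Cfg)
open H2 (subAut quotAut)
open scoped commutatorElement

universe u

local notation "𝐁(" T ")" => baumannSubgroupOf 2 T
local notation "𝐉(" T ")" => thompsonSubgroupOf 2 T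
local notation "𝐕(" T ")" => omegaOneCenter 2 T

open H68.Push H59.MP
open H42.OF (Lf)

theorem lift3 {R G H : Type*} [Group R] [Group G] [Finite G] [Group H] {i : R →* G} {j : R →* H}
    (l : Lf i j) {P : Subgroup R} {Γ : Set R} (hΓ : Γ ⊆ P) {K : Set H}
    (hK : ∀ k ∈ K, k ∈ 𝐍(P.map j)) {D : Subgroup H} (h : Fd (j '' Γ) K D) :
    ∃ (K' : Set G) (D' : Subgroup G), Fd (i '' Γ) K' D' ∧
      (∀ x ∈ P, j x ∈ centralizer K → i x ∈ centralizer K') ∧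
      ∀ E ≤ P, (∀ k ∈ K, k ∈ 𝐍(E.map j)) → ∀ g ∈ K', g ∈ 𝐍(E.map i) := by
  let K' : Set G := {g | ∃ k ∈ K, ∀ x ∈ P, ∀ y, j y = k * j x * k⁻¹ → i y = g * i x * g⁻¹}
  have lf : ∀ k ∈ K, ∃ g ∈ K', ∀ x ∈ P, ∀ y, j y = k * j x * k⁻¹ → i y = g * i x * g⁻¹ :=
    fun k hk => by
    obtain ⟨g, hg⟩ := l.lift k P fun x hx =>
      map_le_range _ _ (conj_mem_of_mem_normalizer (hK k hk) (mem_map_of_mem j hx))
    exact ⟨g, ⟨k, hk, hg⟩, hg⟩
  have key : ∀ x ∈ P, j x ∈ centralizer K ↔ i x ∈ centralizer K' := fun x hx => by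
    refine ⟨fun e g ⟨k, hk, hg⟩ => mul_inv_eq_iff_eq_mul.1
      (hg x hx x (mul_inv_eq_iff_eq_mul.2 (e k hk)).symm).symm, fun e k hk => ?_⟩
    obtain ⟨g, hg, e1⟩ := lf k hk
    obtain ⟨y, -, hy⟩ := conj_mem_of_mem_normalizer (hK k hk) (mem_map_of_mem j hx)
    have := e1 x hx y hy
    rw [e g hg, mul_inv_cancel_right] at this
    rw [l.ii this] at hy
    exact mul_inv_eq_iff_eq_mul.1 hy.symm
  have c1 : closure Γ ≤ P := (closure_le P).2 hΓ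
  have c2 : ∀ x, j x ∈ D → x ∈ closure Γ := fun x hx =>
    (mem_map_iff_mem l.ij).1 (MonoidHom.map_closure j Γ ▸ h.le hx)
  have c3 : ∀ d ∈ D, ∃ x, j x = d := fun d hd =>
    map_le_range _ _ (MonoidHom.map_closure j Γ ▸ h.le hd)
  have m1 : ∀ x, j x ∈ j '' Γ ↔ i x ∈ i '' Γ := fun x => by
    rw [l.ij.mem_set_image, l.ii.mem_set_image]
  have n1 : ∀ x, i x ≠ 1 → j x ≠ 1 := fun x e e1 =>
    e (by rw [l.ij (e1.trans (map_one j).symm), map_one])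
  refine ⟨K', (D.comap j).map i, ⟨(Set.image_nonempty.1 h.ne).image i, ?_, ?_, ?_, ?_, ?_, ?_, ?_,
    ?_, ?_⟩, fun x hx => (key x hx).1, fun E hE hk g ⟨k, k1, k2⟩ =>
      H24.mem_normalizer_of_conj_mem (by
        rintro _ ⟨x, hx, rfl⟩
        obtain ⟨y, hy, e⟩ := conj_mem_of_mem_normalizer (hk k k1) (mem_map_of_mem j hx)
        exact ⟨y, hy, k2 x (hE hx) y e⟩)⟩ <;> try rw [← MonoidHom.map_closure]
  · rintro _ ⟨x, hx, rfl⟩
    simpa using l.mul_eq (c := 1) (d := 1) (by simpa using h.sq _ ⟨x, hx, rfl⟩)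
  · rintro _ ⟨x, hx, rfl⟩ _ ⟨y, hy, rfl⟩
    exact l.mul_eq (h.ab _ ⟨x, hx, rfl⟩ _ ⟨y, hy, rfl⟩)
  · rintro _ ⟨x, hx, rfl⟩ e
    exact h.reg _ ⟨x, hx, rfl⟩ ((key x (hΓ hx)).2 e)
  · exact map_mono c2
  · rintro _ ⟨x, hx, rfl⟩
    obtain ⟨r, hr, f, hf, e⟩ := h.dec (j x) (MonoidHom.map_closure j Γ ▸ mem_map_of_mem j hx)
    obtain ⟨r, rfl⟩ := c3 r hr
    rw [← MonoidHom.map_closure] at hf
    obtain ⟨⟨f, f1, rfl⟩, f2⟩ := hf
    exact ⟨_, mem_map_of_mem i hr, _, ⟨mem_map_of_mem i f1, (key f (c1 f1)).1 f2⟩, by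
      rw [← map_mul] at e ⊢; rw [l.ij e]⟩
  · refine eq_bot_iff.2 ?_
    rintro _ ⟨⟨x, hx, rfl⟩, e⟩
    by_contra e1
    exact n1 x e1 (mem_bot.1 (h.inf ▸ mem_inf.2 ⟨hx, (key x (c1 (c2 x hx))).2 e⟩))
  · rintro _ ⟨x, hx, rfl⟩ e _ ⟨y, hy, rfl⟩ e'
    obtain ⟨k, hk, e1⟩ := h.tr _ hx (n1 x e) _ hy (n1 y e')
    obtain ⟨g, hg, e2⟩ := lf k hk
    exact ⟨g, hg, (e2 x (c1 (c2 x hx)) y e1.symm).symm⟩
  · rintro _ ⟨x, hx, rfl⟩ e _ ⟨y, hy, rfl⟩ e'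
    exact (m1 y).1 (h.one _ hx ((m1 x).2 e) _ hy (n1 y e'))
  · rintro _ ⟨x, hx, rfl⟩ e _ ⟨⟨y, hy, rfl⟩, hy'⟩ e'
    rw [← map_mul, ← m1, map_mul]
    exact h.big _ hx (n1 x e) _ ⟨MonoidHom.map_closure j Γ ▸ mem_map_of_mem j hy,
      (key y (c1 hy)).2 hy'⟩ (n1 y e')

private theorem card_le_two {G : Type*} [Group G] [Finite G] {U H : Subgroup G}
    (h : ∀ a ∈ U, a ∉ H → ∀ b ∈ U, b ∉ H → b * a ∈ H) :
    Nat.card U ≤ 2 * Nat.card (U ⊓ H : Subgroup G) := by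
  have h1 : H.relIndex U ∣ 2 := relIndex_dvd_two_iff.2 (by
    by_cases e : U ≤ H
    · exact ⟨1, one_mem _, fun b hb => Or.inr (e hb)⟩
    · obtain ⟨a, ha, ha'⟩ := SetLike.not_le_iff_exists.1 e
      exact ⟨a, ha, fun b hb => (em (b ∈ H)).symm.imp_left (h a ha ha' b hb)⟩)
  have h2 := (H.subgroupOf U).card_mul_index
  rw [← inf_subgroupOf_right, Nat.card_congr (subgroupOfEquivOfLe inf_le_right).toEquiv,
    inf_subgroupOf_right, inf_comm] at h2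
  rw [← h2, mul_comm]
  exact Nat.mul_le_mul_right _ (Nat.le_of_dvd two_pos h1)

theorem cfg_tri {H : Type*} [Group H] [Finite H] {q : ℕ} {B Z Q W Q' W' : Subgroup H}
    (c : Cfg q B Z Q W) (c' : Cfg q B Z Q' W') (hn : ¬ W' ≤ Q) (hq : q ≠ 2) : Tri (Gm W W') := by
  have hp : 0 < Nat.card Z := Nat.card_pos
  have h0 : q ≠ 0 := fun e => by
    have := c.cardX
    rw [e, zero_mul] at this
    exact Nat.card_pos.ne' this
  have h1 : q ≠ 1 := fun e => c'.nle_symm c hn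
    ((eq_of_le_of_card_ge c.ZX (by rw [c.cardX, e, one_mul])).ge.trans (c'.ZX.trans c'.XQ))
  obtain ⟨a, ha, a1, b, hb, b1, ab⟩ : ∃ a ∈ W, a ∉ Z ∧ ∃ b ∈ W, b ∉ Z ∧ b * a ∉ Z := by
    by_contra e
    push Not at e
    have := card_le_two e
    rw [inf_eq_right.2 c.ZX, c.cardX] at this
    have := Nat.le_of_mul_le_mul_right this hp
    omega
  obtain ⟨y, hy, y1⟩ := SetLike.not_le_iff_exists.1 hn
  have k : ∀ x ∈ W, x ∉ Z → ⁅x, y⁆ ∈ Gm W W' := fun x hx x1 =>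
    ⟨fun e => x1 (c.reg1 (c'.QB (c'.XQ hy)) y1 hx (commutatorElement_eq_one_iff_mul_comm.1 e).symm),
      x, hx, y, hy, rfl⟩
  refine ⟨_, k a ha a1, _, k b hb b1, ?_⟩
  have e := ((c.Z_iff _).1 (cfg_gm c c' hn (k a ha a1)).1).2.2 b (c.QB (c.XQ hb))
  rw [show ⁅a, y⁆ * ⁅b, y⁆ = ⁅b * a, y⁆ by
    calc _ = b * ⁅a, y⁆ * b⁻¹ * ⁅b, y⁆ := by rw [e, mul_inv_cancel_right]
      _ = _ := by group]
  exact k _ (mul_mem hb ha) ab

theorem exists_fd3 {H : Type*} [Group H] [Finite H] {q : ℕ} {L B M Q' X' : Subgroup H}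
    (h : PU 2 q L B M) (hz : ¬ L ≤ 𝐂(𝐕(B))) (c : Cfg q B 𝐕(B) (pCoreOf 2 L) 𝐕(pCoreOf 2 L))
    (c' : Cfg q B 𝐕(B) Q' X') (hn : ¬ X' ≤ pCoreOf 2 L) (hq : q ≠ 2) :
    ∃ R, Fd (Gm 𝐕(pCoreOf 2 L) X')
      (𝐑(2, L) ⊓ 𝐍(closure (Gm 𝐕(pCoreOf 2 L) X')) : Subgroup H) R := by
  have : Fact (Nat.Prime 2) := ⟨Nat.prime_two⟩
  obtain ⟨⟨R, d⟩, -⟩ := exists_fd h hz c c' hn
  have hn' : ¬ 𝐕(pCoreOf 2 L) ≤ Q' := c'.nle_symm c hn
  have hLV : L ≤ 𝐍(𝐕(pCoreOf 2 L)) := le_normalizer_oc (H70.le_normalizer_pCoreOf 2 L)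
  obtain ⟨x, hx, y, hy, hxy⟩ := cfg_tri c c' hn hq
  have hZ : closure (Gm 𝐕(pCoreOf 2 L) X') ≤ 𝐕(B) :=
    (closure_le _).2 fun z hz => (cfg_gm c c' hn hz).1
  have nG : ∀ a ∈ L, a ∈ 𝐍(B) → a ∈ 𝐍(closure (Gm 𝐕(pCoreOf 2 L) X')) := fun a ha hb => by
    have hX : a ∈ 𝐍(X') := by
      rw [← cj_eq_self_iff]
      refine c.uniq c' (cfg_cj c' hb) hn' ?_
      rw [← cj_eq_of_mem_normalizer (hLV ha), cj_le_cj_iff]
      exact hn'
    refine H24.mem_normalizer_of_conj_mem fun z hz => ?_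
    induction hz using closure_induction with
    | mem z hz =>
      obtain ⟨h0, u, hu, v, hv, rfl⟩ := hz
      exact subset_closure ⟨fun e => h0 (by simpa [mul_inv_eq_one] using e), _,
        conj_mem_of_mem_normalizer (hLV ha) hu, _, conj_mem_of_mem_normalizer hX hv, by group⟩
    | one => simp
    | mul u v _ _ hu hv => simpa [mul_assoc] using mul_mem hu hv
    | inv u _ hu => simpa [mul_assoc] using inv_mem hu
  generalize Gm 𝐕(pCoreOf 2 L) X' = Γ at *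
  have hC : ∀ r ∈ R, ∀ b ∈ B, b * r = r * b := fun r hr => oc_le_cent B (hZ (d.le hr))
  have tr : ∀ r ∈ R, r ≠ 1 → ∀ r' ∈ R, r' ≠ 1 →
      ∃ k ∈ (𝐑(2, L) ⊓ 𝐍(closure Γ) : Subgroup H), k * r * k⁻¹ = r' := fun r hr r1 r' hr' r2 => by
    obtain ⟨k, hk, e⟩ := d.tr r hr r1 r' hr' r2
    have kL : k ∈ L := res_le L hk
    have s1 : IsSylowIn 2 B (L ⊓ centralizer {r'}) := h.syl.mono
      (le_inf h.le fun b hb => mem_centralizer_singleton_iff.2 (hC r' hr' b hb)) inf_le_left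
    have s2 : IsSylowIn 2 (B ^ᶜ k) (L ⊓ centralizer {r'}) := (h.syl.cj_of_mem kL).mono
      (le_inf (h.syl.cj_of_mem kL).le fun b hb => by
        obtain ⟨u, hu, rfl⟩ := mem_cj'.1 hb
        rw [mem_centralizer_singleton_iff, ← e]
        calc _ = k * (u * r) * k⁻¹ := by group
          _ = _ := by rw [hC r hr u hu]; group) inf_le_left
    obtain ⟨g, hg, e1⟩ := s2.conj s1
    rw [cj_cj, cj_eq_self_iff] at e1
    have ha := L.mul_mem hg.1 kL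
    have ha' := ha
    rw [← h.syl.res_sup] at ha'
    obtain ⟨k', hk', b, hb, e2⟩ :=
      (mem_sup_of_le_normalizer_left (h.le.trans (le_normalizer_res L))).1 ha'
    refine ⟨k', ⟨hk', nG k' (res_le L hk') ?_⟩, ?_⟩
    · rw [e2] at e1
      exact (Subgroup.mul_mem_cancel_right _ (le_normalizer hb)).1 e1
    · calc _ = k' * b * r * (k' * b)⁻¹ := by rw [mul_assoc k' b, hC r hr b hb]; group
        _ = g * (k * r * k⁻¹) * g⁻¹ := by rw [← e2]; group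
        _ = _ := by rw [e, mem_centralizer_singleton_iff.1 hg.2, mul_inv_cancel_right]
  have anti : centralizer (𝐑(2, L) : Set H) ≤
      centralizer ((𝐑(2, L) ⊓ 𝐍(closure Γ) : Subgroup H) : Set H) := centralizer_anti inf_le_left
  have inf : ∀ r ∈ R, r ∈ centralizer ((𝐑(2, L) ⊓ 𝐍(closure Γ) : Subgroup H) : Set H) → r = 1 :=
    fun r hr e => by
    by_contra r1
    have k : ∀ r' ∈ R, r' ≠ 1 → r' = r := fun r' hr' r2 => by
      obtain ⟨k, hk, rfl⟩ := tr r hr r1 r' hr' r2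
      rw [e k hk, mul_inv_cancel_right]
    obtain ⟨s, hs, f, hf, rfl⟩ := d.dec x (subset_closure hx)
    obtain ⟨s', hs', f', hf', rfl⟩ := d.dec y (subset_closure hy)
    obtain rfl := k s hs fun e1 => d.reg _ hx (by rw [e1, one_mul]; exact hf.2)
    obtain rfl := k s' hs' fun e1 => d.reg _ hy (by rw [e1, one_mul]; exact hf'.2)
    refine r1 (mul_eq_left.1 (k _ (mul_mem hr hr) fun e1 => d.reg _ hxy ?_))
    rw [mul_assoc, ← mul_assoc f, hC _ hr f (oc_le B (hZ hf.1)), mul_assoc, ← mul_assoc, e1, one_mul]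
    exact mul_mem hf.2 hf'.2
  have back : ∀ z ∈ closure Γ, z ∈ centralizer ((𝐑(2, L) ⊓ 𝐍(closure Γ) : Subgroup H) : Set H) →
      z ∈ centralizer (𝐑(2, L) : Set H) := fun z hz e => by
    obtain ⟨r, hr, f, hf, rfl⟩ := d.dec z hz
    rw [inf r hr ((Subgroup.mul_mem_cancel_right _ (anti hf.2)).1 e), one_mul]
    exact hf.2
  refine ⟨R, d.ne, d.sq, d.ab, fun z hz e => d.reg z hz (back z (subset_closure hz) e), d.le,
    fun z hz => ?_, eq_bot_iff.2 fun r hr => inf r hr.1 hr.2, tr, d.one,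
    fun r hr r1 f hf => d.big r hr r1 f ⟨hf.1, back f hf.1 hf.2⟩⟩
  obtain ⟨r, hr, f, hf, e⟩ := d.dec z hz
  exact ⟨r, hr, f, ⟨hf.1, anti hf.2⟩, e⟩

end H50.AN
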