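import Mathlib
import Cfsg.Agent.Base
import Cfsg.Agent.Lib.Acn.Defs

set_option autoImplicit false
set_option linter.unusedSectionVars false
set_option linter.style.haveILetI false

namespace H50.AN

open Subgroup H69 H68B Cfsg H42.FP
open H1.OA (Cfg)
open H2 (subAut quotAut)
open scoped commutatorElement

universe u

local notation "𝐁(" T ")" => baumannSubgroupOf 2 T
local notation "𝐉(" T ")" => thompsonSubgroupOf 2 T
local notation "𝐕(" T ")" => omegaOneCenter 2 T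

section
variable {Γ : Type*} [Group Γ] [Finite Γ] {a b : Γ} {U : Subgroup Γ}

theorem Ac.of_mem (h : Ac a) (hb : a⁻¹ * b ∈ commutator Γ) : Ac b := by
  obtain ⟨g, hg⟩ := h _ hb
  have hg' : g * a * g⁻¹ = b := by rw [hg]; group
  intro x hx
  obtain ⟨k, hk⟩ := h (g⁻¹ * x * g⁻¹⁻¹) (Normal.conj_mem inferInstance x hx g⁻¹)
  refine ⟨g * k * g⁻¹, ?_⟩
  rw [← hg']
  calc g * k * g⁻¹ * (g * a * g⁻¹) * (g * k * g⁻¹)⁻¹ = g * (k * a * k⁻¹) * g⁻¹ := by group
    _ = g * a * g⁻¹ * x := by rw [hk]; group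

private theorem cnt (U : Subgroup Γ) (a : Γ) :
    {y | ∃ u ∈ U, u * a * u⁻¹ = y}.ncard * Nat.card (U ⊓ centralizer {a} : Subgroup Γ) =
      Nat.card U := by
  letI inst : MulAction U Γ := MulAction.compHom Γ ((MulAut.conj : Γ →* MulAut Γ).comp U.subtype)
  have hs : ∀ (u : U) (y : Γ), u • y = (u : Γ) * y * (u : Γ)⁻¹ := fun u y => rfl
  have h1 : MulAction.orbit U a = {y | ∃ u ∈ U, u * a * u⁻¹ = y} := by
    ext y
    constructor
    · rintro ⟨u, rfl⟩
      exact ⟨u, u.2, rfl⟩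
    · rintro ⟨u, hu, rfl⟩
      exact ⟨⟨u, hu⟩, rfl⟩
  have h2 : MulAction.stabilizer U a = (U ⊓ centralizer {a}).subgroupOf U := by
    ext u
    rw [MulAction.mem_stabilizer_iff, hs, mem_subgroupOf, mem_inf, mem_centralizer_singleton_iff,
      mul_inv_eq_iff_eq_mul]
    exact ⟨fun h => ⟨u.2, h⟩, fun h => h.2⟩
  rw [← h1, ← MulAction.index_stabilizer, h2,
    ← Nat.card_congr (subgroupOfEquivOfLe (inf_le_left : U ⊓ centralizer {a} ≤ U)).toEquiv]
  exact index_mul_card _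

private theorem ncard_coset (a : Γ) (K : Subgroup Γ) :
    ((fun x => a * x) '' (K : Set Γ)).ncard = Nat.card K := by
  rw [Set.ncard_image_of_injective _ (mul_right_injective a), ← Nat.card_coe_set_eq]
  rfl

private theorem comm_mem (a u : Γ) : a⁻¹ * (u * a * u⁻¹) ∈ commutator Γ := by
  have : a⁻¹ * (u * a * u⁻¹) = ⁅a⁻¹, u⁆ := by rw [commutatorElement_def]; group
  rw [this]
  exact commutator_mem_commutator (mem_top _) (mem_top _)

/-- the supplement lemma -/
theorem Ac.sup (h : Ac a) (hU : U ⊔ commutator Γ = ⊤) (ha : a ∈ U) :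
    centralizer {a} ≤ U ∧ ∀ x ∈ U, x ∈ commutator Γ → ∃ u ∈ U, u * a * u⁻¹ = a * x := by
  have c1 := cnt (⊤ : Subgroup Γ) a
  have c2 := cnt U a
  have e1 : {y | ∃ u ∈ (⊤ : Subgroup Γ), u * a * u⁻¹ = y} =
      (fun x => a * x) '' (commutator Γ : Set Γ) := by
    ext y
    constructor
    · rintro ⟨u, -, rfl⟩
      exact ⟨_, comm_mem a u, by simp only []; group⟩
    · rintro ⟨x, hx, rfl⟩
      obtain ⟨g, hg⟩ := h x hx
      exact ⟨g, mem_top _, hg⟩
  have e2 : {y | ∃ u ∈ U, u * a * u⁻¹ = y} ⊆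
      (fun x => a * x) '' ((U ⊓ commutator Γ : Subgroup Γ) : Set Γ) := by
    rintro y ⟨u, hu, rfl⟩
    exact ⟨_, ⟨U.mul_mem (U.inv_mem ha) (U.mul_mem (U.mul_mem hu ha) (U.inv_mem hu)), comm_mem a u⟩,
      by simp only []; group⟩
  rw [e1, ncard_coset, top_inf_eq] at c1
  have c3 := H1.card_sup_mul_card_inf_of_normal U (commutator Γ)
  rw [hU, ← c1] at c3
  have pD : 0 < Nat.card (commutator Γ) := Nat.card_pos
  have c4 : Nat.card (centralizer {a}) * Nat.card (U ⊓ commutator Γ : Subgroup Γ) = Nat.card U := by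
    apply Nat.eq_of_mul_eq_mul_left pD
    rw [← mul_assoc, c3, mul_comm]
  have l1 := Set.ncard_le_ncard e2 (Set.toFinite _)
  rw [ncard_coset] at l1
  have l2 : Nat.card (U ⊓ centralizer {a} : Subgroup Γ) ≤ Nat.card (centralizer {a}) :=
    card_le_of_le inf_le_right
  have p1 : 0 < Nat.card (centralizer {a}) := Nat.card_pos
  have p2 : 0 < Nat.card (U ⊓ commutator Γ : Subgroup Γ) := Nat.card_pos
  have q1 : Nat.card (centralizer {a}) ≤ Nat.card (U ⊓ centralizer {a} : Subgroup Γ) := by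
    by_contra hc
    push Not at hc
    nlinarith
  have q2 : Nat.card (U ⊓ commutator Γ : Subgroup Γ) ≤ {y | ∃ u ∈ U, u * a * u⁻¹ = y}.ncard := by
    by_contra hc
    push Not at hc
    nlinarith
  refine ⟨?_, fun x hx hD => ?_⟩
  · have := eq_of_le_of_card_ge (inf_le_right : U ⊓ centralizer {a} ≤ centralizer {a}) q1
    rw [← this]
    exact inf_le_left
  · have := Set.eq_of_subset_of_ncard_le e2 (by rw [ncard_coset]; exact q2) (Set.toFinite _)
    have hm : a * x ∈ {y | ∃ u ∈ U, u * a * u⁻¹ = y} := by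
      rw [this]
      exact ⟨x, ⟨hx, hD⟩, rfl⟩
    exact hm

private theorem res_comm (h : Ac a) (hU : U ⊔ commutator Γ = ⊤) (ha : a ∈ U) (x : U)
    (hx : (x : Γ) ∈ commutator Γ) : x ∈ commutator U := by
  obtain ⟨u, hu, e⟩ := (h.sup hU ha).2 x x.2 hx
  have : x = ⁅(⟨a, ha⟩ : U)⁻¹, (⟨u, hu⟩ : U)⁆ := by
    apply Subtype.ext
    rw [commutatorElement_def]
    show (x : Γ) = a⁻¹ * u * a⁻¹⁻¹ * u⁻¹
    calc (x : Γ) = a⁻¹ * (a * x) := by group
      _ = _ := by rw [← e]; group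
  rw [this]
  exact commutator_mem_commutator (mem_top _) (mem_top _)

private theorem map_comm {Δ : Type*} [Group Δ] {Θ : Type*} [Group Θ] (f : Δ →* Θ) {x : Δ}
    (hx : x ∈ commutator Δ) : f x ∈ commutator Θ := by
  have : (commutator Δ).map f ≤ commutator Θ := by
    rw [commutator_def, map_commutator]
    exact commutator_mono le_top le_top
  exact this (mem_map_of_mem f hx)

private theorem res_ac (h : Ac a) (hU : U ⊔ commutator Γ = ⊤) (ha : a ∈ U) :
    Ac (⟨a, ha⟩ : U) := by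
  intro x hx
  obtain ⟨u, hu, e⟩ := (h.sup hU ha).2 x x.2 (map_comm U.subtype hx)
  exact ⟨⟨u, hu⟩, Subtype.ext e⟩

private theorem ac_map {Θ : Type*} [Group Θ] (f : Γ →* Θ) (hf : Function.Surjective f) (h : Ac a) :
    Ac (f a) := by
  intro y hy
  have : (commutator Γ).map f = commutator Θ := by
    rw [commutator_def, map_commutator, ← MonoidHom.range_eq_map, MonoidHom.range_eq_top.2 hf]
    rfl
  rw [← this] at hy
  obtain ⟨x, hx, rfl⟩ := hy
  obtain ⟨g, hg⟩ := h x hx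
  exact ⟨f g, by rw [← map_inv, ← map_mul, ← map_mul, hg, map_mul]⟩

end

variable {A : Type*} {G : Type u} [Group A] [Group G] [Finite G] {φ : A →* MulAut G}

private theorem norm_of {Γ : Type*} [Group Γ] [Finite Γ] {i : G →* Γ} {α : A →* Γ} {a : A}
    (h : Am φ i α a) {N : Subgroup G} [hn : N.Normal] (hN : Iv φ N) : (N.map i).Normal := by
  rw [← normalizer_eq_top_iff, eq_top_iff, ← h.sup, sup_le_iff]
  constructor
  · rintro _ ⟨g, rfl⟩
    apply mem_normalizer_fintype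
    rintro _ ⟨n, hn', rfl⟩
    exact ⟨g * n * g⁻¹, hn.conj_mem n hn' g, by simp⟩
  · rintro _ ⟨b, rfl⟩
    apply mem_normalizer_fintype
    rintro _ ⟨n, hn', rfl⟩
    exact ⟨φ b n, hN b n hn', h.eqv b n⟩

theorem AC.sub (h : AC φ) {N : Subgroup G} (hN : Iv φ N) : AC (subAut φ N hN) := by
  obtain ⟨Γ, _, _, i, α, a, h⟩ := h
  let U : Subgroup Γ := N.map i ⊔ α.range
  have hU : U ⊔ commutator Γ = ⊤ := by
    rw [eq_top_iff, ← h.sup]
    exact sup_le (h.le.trans le_sup_right) (le_sup_right.trans le_sup_left)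
  have m1 : ∀ n : N, (i.comp N.subtype) n ∈ U := fun n => mem_sup_left ⟨n, n.2, rfl⟩
  have m2 : ∀ b, α b ∈ U := fun b => mem_sup_right ⟨b, rfl⟩
  refine ⟨U, inferInstance, inferInstance, (i.comp N.subtype).codRestrict U m1,
    α.codRestrict U m2, a, ?_, ?_, ?_, ?_, ?_⟩
  · intro x y e
    exact Subtype.ext (h.inj (congrArg Subtype.val e))
  · intro b x
    exact Subtype.ext (h.eqv b x)
  · apply map_injective U.subtype_injective
    rw [Subgroup.map_sup, ← MonoidHom.range_eq_map, range_subtype, MonoidHom.map_range,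
      MonoidHom.map_range]
    congr 1
    ext y
    constructor
    · rintro ⟨n, rfl⟩
      exact ⟨n, n.2, rfl⟩
    · rintro ⟨n, hn, rfl⟩
      exact ⟨⟨n, hn⟩, rfl⟩
  · rintro _ ⟨n, rfl⟩
    exact res_comm h.ac hU (m2 a) _ (h.le ⟨n, rfl⟩)
  · exact res_ac h.ac hU (m2 a)

theorem AC.quot (h : AC φ) {N : Subgroup G} [N.Normal] (hN : Iv φ N) : AC (quotAut φ N hN) := by
  obtain ⟨Γ, _, _, i, α, a, h⟩ := h
  haveI := norm_of h hN
  have hs := QuotientGroup.mk'_surjective (N.map i)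
  refine ⟨Γ ⧸ N.map i, inferInstance, inferInstance,
    QuotientGroup.map N (N.map i) i (le_comap_map _ _), (QuotientGroup.mk' _).comp α, a,
    ?_, ?_, ?_, ?_, ?_⟩
  · rw [injective_iff_map_eq_one]
    intro x hx
    obtain ⟨g, rfl⟩ := QuotientGroup.mk_surjective x
    rw [QuotientGroup.map_mk, QuotientGroup.eq_one_iff] at hx
    obtain ⟨n, hn, e⟩ := hx
    rw [QuotientGroup.eq_one_iff, ← h.inj e]
    exact hn
  · intro b x
    obtain ⟨g, rfl⟩ := QuotientGroup.mk_surjective x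
    show ((i (φ b g) : Γ) : Γ ⧸ N.map i) = ((α b * i g * (α b)⁻¹ : Γ) : Γ ⧸ N.map i)
    rw [h.eqv]
  · have := congrArg (Subgroup.map (QuotientGroup.mk' (N.map i))) h.sup
    rw [Subgroup.map_sup, ← MonoidHom.range_eq_map, MonoidHom.range_eq_top.2 hs,
      MonoidHom.map_range, MonoidHom.map_range] at this
    rw [eq_top_iff, ← this]
    refine sup_le_sup_right ?_ _
    rintro _ ⟨g, rfl⟩
    exact ⟨g, rfl⟩
  · rintro _ ⟨x, rfl⟩
    obtain ⟨g, rfl⟩ := QuotientGroup.mk_surjective x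
    exact map_comm (QuotientGroup.mk' (N.map i)) (h.le ⟨g, rfl⟩)
  · exact ac_map (QuotientGroup.mk' (N.map i)) hs h.ac

theorem AC.conj (h : AC φ) (σ : MulAut G) : AC ((MulAut.conj σ).toMonoidHom.comp φ) := by
  obtain ⟨Γ, _, _, i, α, a, h⟩ := h
  have hr : (i.comp σ.symm.toMonoidHom).range = i.range := by
    ext y
    constructor
    · rintro ⟨g, rfl⟩
      exact ⟨_, rfl⟩
    · rintro ⟨g, rfl⟩
      exact ⟨σ g, by simp⟩
  refine ⟨Γ, inferInstance, inferInstance, i.comp σ.symm.toMonoidHom, α, a,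
    h.inj.comp σ.symm.injective, fun b x => ?_, by rw [hr]; exact h.sup, by rw [hr]; exact h.le,
    h.ac⟩
  show i (σ.symm ((σ * φ b * σ⁻¹) x)) = α b * i (σ.symm x) * (α b)⁻¹
  rw [← h.eqv]
  congr 1
  exact σ.symm_apply_apply _

theorem AC.stab (h : AC φ) {P : Subgroup G} (hP : IsSylowIn 2 P ⊤) :
    ∃ (B : Type u) (_ : Group B) (_ : Finite B) (ψ : B →* MulAut G), AC ψ ∧ Iv ψ P ∧
      ∀ s ∈ P, ∃ b ∈ commutator B, ∀ x, ψ b x = s * x * s⁻¹ := by
  obtain ⟨Γ, _, _, i, α, a, h⟩ := h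
  haveI hn : i.range.Normal := by
    rw [MonoidHom.range_eq_map]
    exact norm_of h fun _ _ _ => mem_top _
  let e : G ≃* i.range := MonoidHom.ofInjective h.inj
  let ψ0 : Γ →* MulAut G :=
    (MulAut.congr e.symm).toMonoidHom.comp (MulAut.conjNormal (H := i.range))
  have he : ∀ y : i.range, i (e.symm y) = y := fun y => by
    obtain ⟨g, rfl⟩ := e.surjective y
    rw [e.symm_apply_apply]
    rfl
  have hψ : ∀ γ x, i (ψ0 γ x) = γ * i x * γ⁻¹ := fun γ x => by
    show i (e.symm (MulAut.conjNormal γ (e x))) = _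
    rw [he]
    rfl
  let B : Subgroup Γ := normalizer (P.map i : Set Γ)
  have hS : IsSylowIn 2 (P.map i) i.range := by
    rw [MonoidHom.range_eq_map]
    exact hP.map i
  have fr : ∀ γ : Γ, ∃ n ∈ i.range, ∃ b ∈ B, γ = n * b := fun γ =>
    hS.frattini (by rw [normalizer_eq_top_iff.2 hn]; exact mem_top _)
  have hsup : i.range ⊔ B = ⊤ := by
    rw [eq_top_iff]
    intro γ _
    obtain ⟨n, hn, b, hb, rfl⟩ := fr γ
    exact mul_mem (mem_sup_left hn) (mem_sup_right hb)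
  have hU : B ⊔ commutator Γ = ⊤ := by
    rw [eq_top_iff, ← hsup]
    exact sup_le (h.le.trans le_sup_right) le_sup_left
  obtain ⟨n, hn', b, hb, e0⟩ := fr (α a)
  have hac : Ac b := by
    refine h.ac.of_mem ?_
    have : (α a)⁻¹ * b = b⁻¹ * n⁻¹ * b⁻¹⁻¹ := by rw [e0]; group
    rw [this]
    exact Normal.conj_mem inferInstance _ (inv_mem (h.le hn')) _
  refine ⟨B, inferInstance, inferInstance, ψ0.comp B.subtype,
    ⟨Γ, inferInstance, inferInstance, i, B.subtype, ⟨b, hb⟩, h.inj, fun c x => hψ c x,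
      by rw [range_subtype]; exact hsup, h.le, hac⟩, fun c x hx => ?_, fun s hs => ?_⟩
  · obtain ⟨y, hy, e1⟩ := (mem_normalizer_iff.1 c.2 (i x)).1 ⟨x, hx, rfl⟩
    have : (ψ0.comp B.subtype) c x = y := h.inj ((hψ c x).trans e1.symm)
    rw [this]
    exact hy
  · refine ⟨⟨i s, le_normalizer ⟨s, hs, rfl⟩⟩, res_comm hac hU hb _ (h.le ⟨s, rfl⟩), fun x => ?_⟩
    apply h.inj
    rw [map_mul, map_mul, map_inv]
    exact hψ (i s) x

end H50.AN
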