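import Mathlib
import Cfsg.Agent.Base
import Cfsg.Agent.Lib.Acn.Sup
import Cfsg.Agent.Lib.FGS.ClassSize

/-! Anticentral elements: homomorphisms and fixed points. -/

set_option autoImplicit false
set_option linter.unusedSectionVars false
set_option linter.style.haveILetI false
set_option linter.unusedVariables false

namespace H50.AN

open Subgroup H69 H68B Cfsg H42.FP
open H1.OA (Cfg)
open H2 (subAut quotAut)
open scoped commutatorElement

universe u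

local notation "𝐁(" T ")" => baumannSubgroupOf 2 T
local notation "𝐉(" T ")" => thompsonSubgroupOf 2 T
local notation "𝐕(" T ")" => omegaOneCenter 2 T

variable {A : Type*} {G : Type u} [Group A] [Group G] [Finite G] {φ : A →* MulAut G}

namespace Fp40

variable {Γ : Type*} [Group Γ] {i : G →* Γ} {α : A →* Γ} {a : A}

theorem nrm (m : Am φ i α a) {N : Subgroup G} (hN : Iv φ N) : α.range ≤ 𝐍(N.map i) := by
  refine le_normalizer_of_cj_le ?_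
  rintro _ ⟨b, rfl⟩ _ ⟨_, ⟨n, hn, rfl⟩, rfl⟩
  exact ⟨φ b n, hN b n hn, m.eqv b n⟩

theorem dec (m : Am φ i α a) {N : Subgroup G} (hN : Iv φ N) {γ : Γ}
    (h : γ ∈ N.map i ⊔ α.range) : ∃ g ∈ N, ∃ b, γ = i g * α b := by
  obtain ⟨_, ⟨g, hg, rfl⟩, _, ⟨b, rfl⟩, rfl⟩ := (mem_sup_of_le_normalizer_left (nrm m hN)).1 h
  exact ⟨g, hg, b, rfl⟩

theorem sup_top (m : Am φ i α a) (N : Subgroup G) : (N.map i ⊔ α.range) ⊔ commutator Γ = ⊤ := by
  rw [eq_top_iff, ← m.sup]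
  exact sup_le (m.le.trans le_sup_right) (le_sup_right.trans le_sup_left)

theorem nrm' (m : Am φ i α a) {N Q : Subgroup G} (nQ : N ≤ 𝐍(Q)) (hQ : Iv φ Q) :
    N.map i ⊔ α.range ≤ 𝐍(Q.map i) := by
  refine sup_le ?_ (nrm m hQ)
  rintro _ ⟨n, hn, rfl⟩
  rw [← cj_eq_self_iff, ← map_cj, cj_eq_of_mem_normalizer (nQ hn)]

end Fp40

theorem AC.hom (h : AC φ) {N : Subgroup G} (hN : Iv φ N) {C : Type*} [CommGroup C] (f : N →* C)
    (ψ : A →* C) (h1 : ∀ b n, f (subAut φ N hN b n) = f n)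
    (h2 : ∀ (g : N) (b : A), (∀ x : G, g * φ b x * (g : G)⁻¹ = x) → f g * ψ b = 1) (n : N) :
    f n = 1 := by
  obtain ⟨Γ, _, _, i, α, a, m⟩ := h
  obtain ⟨u, hu, e⟩ := (m.ac.sup (Fp40.sup_top m N) (mem_sup_right ⟨a, rfl⟩)).2 (i n)
    (mem_sup_left ⟨n, n.2, rfl⟩) (m.le ⟨n, rfl⟩)
  obtain ⟨g, hg, b, rfl⟩ := Fp40.dec m hN hu
  set g' : N := ⟨g, hg⟩ * subAut φ N hN (b * a * b⁻¹) ((⟨g, hg⟩ : N)⁻¹ * n⁻¹) with hg'
  have e1 : i g' * α (b * a * b⁻¹ * a⁻¹) = 1 := by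
    have e2 : (g' : G) = g * φ (b * a * b⁻¹) (g⁻¹ * (n : G)⁻¹) := rfl
    have e3 : i n = (α a)⁻¹ * (i g * α b * α a * (i g * α b)⁻¹) := by rw [e]; group
    rw [e2, map_mul i, m.eqv]
    simp only [map_mul, map_inv]
    rw [e3]
    group
  have e4 := h2 g' (b * a * b⁻¹ * a⁻¹) fun x => m.inj (by
    rw [map_mul, map_mul, map_inv, m.eqv, eq_inv_of_mul_eq_one_left e1]
    group)
  rw [hg', map_mul, h1] at e4
  simp only [map_mul, map_inv, mul_inv_cancel_comm, mul_inv_cancel, mul_one,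
    mul_inv_cancel_left] at e4
  exact inv_eq_one.1 e4

theorem AC.fp0 (h : AC φ) {N U Q : Subgroup G} (hN : Iv φ N) (hU : IsPGroup 2 U) (nU : N ≤ 𝐍(U))
    (QN : Q ≤ N) (nQ : N ≤ 𝐍(Q)) (hQ : Iv φ Q) {x : G} (hx : x ∈ U)
    (h1 : ∀ b, ∃ g ∈ N, g * φ b x * g⁻¹ = x) {r : ℕ} (hr : r.Prime) (r2 : r ≠ 2) :
    ∃ P, IsSylowIn r P Q ∧ x ∈ 𝐂(P) := by
  haveI := Fact.mk hr
  obtain ⟨Γ, _, _, i, α, a, m⟩ := h
  obtain ⟨g, hg, e⟩ := h1 a
  have QC : Q.map i ≤ commutator Γ := (map_le_range i Q).trans m.le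
  have nn := Fp40.nrm' m nQ hQ
  have hβ : Ac (i g * α a) := m.ac.of_mem (by
    rw [← mul_assoc]
    exact (inferInstance : (commutator Γ).Normal).conj_mem' _ (m.le ⟨g, rfl⟩) _)
  have βN : i g * α a ∈ N.map i ⊔ α.range := mul_mem_sup ⟨g, hg, rfl⟩ ⟨a, rfl⟩
  have βx : i x ∈ centralizer {i g * α a} := by
    rw [mem_centralizer_singleton_iff]
    have : i x = i g * α a * i x * (i g * α a)⁻¹ := by
      conv_lhs => rw [← e, map_mul, map_mul, map_inv, m.eqv]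
      group
    conv_lhs => rw [this]
    group
  generalize i g * α a = β at hβ βN βx
  obtain ⟨P₀, hP₀⟩ := exists_isSylowIn r Q
  obtain ⟨q, hq, n, hn, e1⟩ := (hP₀.map i).frattini (nn βN)
  have qN : q ∈ N.map i ⊔ α.range := mem_sup_left (map_mono QN hq)
  obtain ⟨u, hu, e2⟩ := (hβ.sup (Fp40.sup_top m N) βN).2 (β⁻¹ * q⁻¹ * β)
    (mul_mem (mul_mem (inv_mem βN) (inv_mem qN)) βN)
    ((inferInstance : (commutator Γ).Normal).conj_mem' _ (inv_mem (QC hq)) _)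
  have e3 : u * β * u⁻¹ = n := by
    rw [e2, ← mul_assoc, ← mul_assoc, mul_inv_cancel, one_mul, e1, inv_mul_cancel_left]
  obtain ⟨_, ⟨q₀, hq₀, rfl⟩, e4⟩ :=
    (hP₀.map i).conj ((hP₀.map i).cj_of_mem_normalizer (nn (inv_mem hu)))
  have hP := hP₀.cj_of_mem hq₀
  rw [← map_cj] at e4
  refine ⟨_, hP, ?_⟩
  generalize P₀ ^ᶜ q₀ = P at hP e4
  have hb : β ∈ 𝐍(P.map i) := by
    rw [e4, ← cj_normalizer, mem_cj, inv_inv, e3]
    exact hn
  have ht : 𝐍(P.map i) ⊔ commutator Γ = ⊤ := by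
    rw [eq_top_iff, ← m.sup]
    refine sup_le (m.le.trans le_sup_right) fun γ hγ => ?_
    obtain ⟨n', hn', q', hq', rfl⟩ := (hP.map i).frattini' (nn (mem_sup_right hγ))
    exact mul_mem_sup hn' (QC hq')
  have hx' : x ∈ 𝐍(P) := by
    have := (hβ.sup ht hb).1 βx
    rw [← cj_eq_self_iff, ← map_cj] at this
    exact cj_eq_self_iff.1 (map_injective m.inj this)
  have hd : Disjoint P U := IsPGroup.disjoint_of_ne r 2 r2 P U hP.isP hU
  intro p hp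
  have : p * x * p⁻¹ * x⁻¹ = 1 := disjoint_def.1 hd
    (by
      have := mul_mem hp (conj_mem_of_mem_normalizer hx' (inv_mem hp))
      simpa only [mul_assoc] using this)
    (mul_mem (conj_mem_of_mem_normalizer (nU (QN (hP.le hp))) hx) (inv_mem hx))
  rw [mul_inv_eq_one, mul_inv_eq_iff_eq_mul] at this
  exact this

theorem Fp40.fp1 (h : AC φ) {Z : Subgroup G} [Z.Normal] (hZ : IsPGroup 2 Z) {x : G} (hx : x ∈ Z)
    (h1 : ∀ b, ∃ g, φ b x = g * x * g⁻¹)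
    (h2 : ∀ M : Subgroup G, M.Normal → (∀ y : G, ⁅y, x⁆ ∈ M) → x ∈ M) : x = 1 := by
  obtain ⟨T, hT⟩ := exists_isSylowIn 2 (⊤ : Subgroup G)
  have hc : T.index.Coprime (centralizer {x}).index := by
    refine Nat.Coprime.symm (Nat.coprime_of_dvd fun r hr hd hd' => ?_)
    haveI := Fact.mk hr
    by_cases r2 : r = 2
    · subst r2
      exact hT.not_dvd_relIndex (by rwa [relIndex_top_right])
    · obtain ⟨P, hP, hxP⟩ := h.fp0 (N := ⊤) (U := Z) (Q := ⊤) (fun _ _ _ => trivial) hZ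
        (normal_iff_top_le_normalizer.1 inferInstance) le_rfl le_normalizer (fun _ _ _ => trivial)
        hx (fun b => by
          obtain ⟨g, hg⟩ := h1 b
          exact ⟨g⁻¹, trivial, by rw [hg]; group⟩) hr r2
      refine hP.not_dvd_relIndex_of_le (K := centralizer {x}) (fun p hp => ?_) le_top
        (by rwa [relIndex_top_right])
      exact mem_centralizer_singleton_iff.2 (hxP p hp)
  have ht : ∀ g : G, ∃ t ∈ T, g * x * g⁻¹ = t * x * t⁻¹ := fun g => by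
    obtain ⟨t, ht, c, hc, rfl⟩ := H80.exists_mul_of_coprime_index hc g
    refine ⟨t, ht, ?_⟩
    rw [mul_assoc t c, mem_centralizer_singleton_iff.1 hc]
    group
  set M := normalClosure (Set.range fun y : G => ⁅y, x⁆) with hM
  have xM : x ∈ M := h2 M inferInstance fun y => subset_normalClosure ⟨y, rfl⟩
  have MZ : M ≤ Z := normalClosure_le_normal (by
    rintro _ ⟨y, rfl⟩
    exact mul_mem ((inferInstance : Z.Normal).conj_mem x hx y) (inv_mem hx))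
  have hle : M ≤ ⁅M, T⁆ := by
    refine (closure_le _).2 fun z hz => ?_
    obtain ⟨_, ⟨y, rfl⟩, hc⟩ := Group.mem_conjugatesOfSet_iff.1 hz
    obtain ⟨g, rfl⟩ := isConj_iff.1 hc
    obtain ⟨t, ht1, e1⟩ := ht (g * y)
    obtain ⟨s, hs1, e2⟩ := ht g
    have : g * ⁅y, x⁆ * g⁻¹ = ⁅x, t⁆⁻¹ * ⁅x, s⁆ := by
      have e3 : g * ⁅y, x⁆ * g⁻¹ = (g * y * x * (g * y)⁻¹) * (g * x * g⁻¹)⁻¹ := by
        rw [commutatorElement_def]; group
      rw [e3, e1, e2, commutatorElement_def, commutatorElement_def]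
      group
    show g * ⁅y, x⁆ * g⁻¹ ∈ ⁅M, T⁆
    rw [this]
    exact mul_mem (inv_mem (commutator_mem_commutator xM ht1)) (commutator_mem_commutator xM hs1)
  by_contra hne
  exact (commutator_lt_of_isPGroup (hZ.to_le MZ) hT.isP
    (le_top.trans (normal_iff_top_le_normalizer.1 inferInstance))
    fun e => hne (by rwa [e, mem_bot] at xM)).not_ge hle

theorem AC.fp (h : AC φ) {Y Z L : Subgroup G} (hY : Iv φ Y) (hL : Iv φ L) (hZ : IsPGroup 2 Z)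
    (LZ : L ≤ Z) (ZY : Z ≤ Y) (nZ : Y ≤ 𝐍(Z)) (nL : Y ≤ 𝐍(L)) {x : G} (hx : x ∈ Z)
    (h1 : ∀ b, ∃ g ∈ Y, ∃ l ∈ L, φ b x = g * x * g⁻¹ * l)
    (h2 : ∀ M, L ≤ M → Y ≤ 𝐍(M) → (∀ y ∈ Y, ⁅y, x⁆ ∈ M) → x ∈ M) : x ∈ L := by
  have LY := LZ.trans ZY
  haveI : (L.subgroupOf Y).Normal := (normal_subgroupOf_iff_le_normalizer LY).2 nL
  haveI : (Z.subgroupOf Y).Normal := (normal_subgroupOf_iff_le_normalizer ZY).2 nZ
  have hL' : Iv (subAut φ Y hY) (L.subgroupOf Y) := fun b y hy => hL b y hy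
  let π := QuotientGroup.mk' (L.subgroupOf Y)
  haveI : ((Z.subgroupOf Y).map π).Normal :=
    Normal.map inferInstance π (QuotientGroup.mk'_surjective _)
  have := Fp40.fp1 ((h.sub hY).quot hL') (Z := (Z.subgroupOf Y).map π)
    ((isPGroup_subgroupOf hZ Y).map π) (x := π ⟨x, ZY hx⟩) ⟨⟨x, ZY hx⟩, hx, rfl⟩ (fun b => ?_)
    fun M hM hy => ?_
  · exact (QuotientGroup.eq_one_iff (N := L.subgroupOf Y) _).1 this
  · obtain ⟨g, hg, l, hl, e⟩ := h1 b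
    refine ⟨π ⟨g, hg⟩, ?_⟩
    have e1 : subAut φ Y hY b ⟨x, ZY hx⟩ = ⟨g, hg⟩ * ⟨x, ZY hx⟩ * ⟨g, hg⟩⁻¹ * ⟨l, LY hl⟩ :=
      Subtype.ext e
    have e2 : π ⟨l, LY hl⟩ = 1 := (QuotientGroup.eq_one_iff (N := L.subgroupOf Y) _).2 hl
    show π (subAut φ Y hY b ⟨x, ZY hx⟩) = _
    rw [e1, map_mul, e2, mul_one, map_mul, map_mul, map_inv]
  · obtain ⟨y, hy1, hy2⟩ := h2 ((M.comap π).map Y.subtype) (fun l hl => ⟨⟨l, LY hl⟩, by
        have e2 : π ⟨l, LY hl⟩ = 1 := (QuotientGroup.eq_one_iff (N := L.subgroupOf Y) _).2 hl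
        show π ⟨l, LY hl⟩ ∈ M
        rw [e2]; exact one_mem _, rfl⟩)
      (normal_iff_le_normalizer_map.1 (hM.comap π)) fun y hy' =>
        ⟨⁅(⟨y, hy'⟩ : Y), ⟨x, ZY hx⟩⁆, by
          show π ⁅(⟨y, hy'⟩ : Y), ⟨x, ZY hx⟩⁆ ∈ M
          rw [map_commutatorElement]; exact hy _, rfl⟩
    obtain rfl : y = ⟨x, ZY hx⟩ := Subtype.ext hy2
    exact hy1

end H50.AN
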