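import Mathlib
import Cfsg.Agent.Base
import Cfsg.Agent.Lib.Acn.Fp
import Cfsg.Agent.Lib.Fpf.N2

set_option autoImplicit false
set_option linter.unusedSectionVars false
set_option linter.style.haveILetI false

namespace H50.AN

open Subgroup H69 H68B Cfsg H42.FP
open H1.OA (Cfg)
open H2 (subAut quotAut)
open scoped commutatorElement

universe u

local notation "𝐁(" T ")" => baumannSubgroupOf 2 T
local notation "𝐉(" T ")" => thompsonSubgroupOf 2 T
local notation "𝐕(" T ")" => omegaOneCenter 2 T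

variable {A : Type*} {G : Type u} [Group A] [Finite A] [Group G] [Finite G] {φ : A →* MulAut G}

namespace Fls

open scoped IsMulCommutative in
theorem prod_rel {ι : Type*} {Z L Y : Subgroup G} [IsMulCommutative Z] (hL : L ≤ Z) (hY : Y ≤ 𝐂(L))
    {Δ : ι → Set G}
    (key : ∀ i, ∀ z ∈ Δ i, ∀ z' ∈ Δ i, ∃ g ∈ Y, (∀ j, j ≠ i → g ∈ centralizer (Δ j)) ∧
      ∃ l ∈ L, z' = g * z * g⁻¹ * l) {c c' : ι → Z} (hc : ∀ i, (c i : G) ∈ Δ i)
    (hc' : ∀ i, (c' i : G) ∈ Δ i) (s : Finset ι) :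
    ∃ g ∈ Y, (∀ j, j ∉ s → g ∈ centralizer (Δ j)) ∧
      ∃ l ∈ L, ((∏ i ∈ s, c' i : Z) : G) = g * (∏ i ∈ s, c i : Z) * g⁻¹ * l := by
  classical
  induction s using Finset.induction_on with
  | empty => exact ⟨1, one_mem _, fun _ _ => one_mem _, 1, one_mem _, by simp⟩
  | insert i s hi ih =>
    obtain ⟨g, g1, g2, l, hl, e⟩ := ih
    obtain ⟨k, k1, k2, m, hm, e'⟩ := key i _ (hc i) _ (hc' i)
    refine ⟨k * g, mul_mem k1 g1, fun j hj => ?_, l * m, mul_mem hl hm, ?_⟩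
    · rw [Finset.mem_insert, not_or] at hj
      exact mul_mem (k2 j hj.1) (g2 j hj.2)
    have a : Commute (c i : G) g := g2 i hi _ (hc i)
    have b : Commute ((∏ i ∈ s, c' i : Z) : G) k :=
      mem_centralizer_singleton_iff.1 (prod_mem (S := (centralizer {k}).subgroupOf Z) fun j hj =>
        mem_centralizer_singleton_iff.2 (k2 j (fun q => hi (q ▸ hj)) _ (hc' j)))
    have d : Commute m ((∏ i ∈ s, c' i : Z) : G) := setLike_mul_comm (hL hm) (SetLike.coe_mem _)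
    have f : Commute l k := hY k1 l hl
    rw [Finset.prod_insert hi, Finset.prod_insert hi, coe_mul, coe_mul, e', mul_assoc _ m, d.eq,
      ← mul_assoc, mul_assoc _ k⁻¹, ← b.inv_right.eq, e, mul_assoc k g, ← mul_assoc g, ← a.eq,
      mul_inv_rev]
    simp only [mul_assoc]
    rw [← mul_assoc l, f.inv_right.eq, mul_assoc]

theorem sq_cl {S : Set G} [IsMulCommutative (closure S)] (h : ∀ x ∈ S, x * x = 1) {x : G}
    (hx : x ∈ closure S) : x * x = 1 := by
  induction hx using closure_induction with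
  | mem y hy => exact h y hy
  | one => exact one_mul 1
  | mul y z hy' hz' hy hz =>
    rw [Commute.mul_mul_mul_comm (setLike_mul_comm hz' hy' : Commute z y), hy, hz, one_mul]
  | inv y _ hy => rw [← mul_inv_rev, hy, inv_one]

/-- a subgroup containing the commutators of one element of `Γ` with `K` contains `R` -/
theorem le_of {Γ K : Set G} {R M : Subgroup G} (h : Fd Γ K R) (tri : Tri Γ) {z : G} (hz : z ∈ Γ)
    (hM : ∀ k ∈ K, k * z * k⁻¹ * z⁻¹ ∈ M) : R ≤ M := by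
  obtain ⟨r, hr, r1, f, hf, rfl⟩ := N2.dec' h hz
  have k1 : ∀ r' ∈ R, r' ≠ 1 → r' * r⁻¹ ∈ M := fun r' hr' n => by
    obtain ⟨k, hk, rfl⟩ := h.tr r hr r1 r' hr' n
    have c : Commute k f := hf.2 k hk
    have := hM k hk
    rwa [show k * (r * f) * k⁻¹ * (r * f)⁻¹ = k * r * (f * k⁻¹) * f⁻¹ * r⁻¹ by group,
      ← c.inv_left.eq, ← mul_assoc, mul_inv_cancel_right] at this
  obtain ⟨x, hx, y, hy, hxy⟩ := tri
  obtain ⟨r₁, h1, n1, f₁, g1, e1⟩ := N2.dec' h hx
  obtain ⟨r₂, h2, n2, f₂, g2, e2⟩ := N2.dec' h hy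
  have n : r₁ * r₂⁻¹ ≠ 1 := fun q => h.reg _ hxy (by
    rw [← inv_eq_of_mul_eq_one_right (h.sq x hx), e1, e2, mul_inv_eq_one.1 q]
    simpa [mul_assoc] using mul_mem (inv_mem g1).2 g2.2)
  have m : r⁻¹ ∈ M := by
    have := mul_mem (inv_mem (mul_mem (k1 _ h1 n1) (inv_mem (k1 _ h2 n2))))
      (k1 _ (mul_mem h1 (inv_mem h2)) n)
    simpa [mul_assoc] using this
  intro r' hr'
  by_cases q : r' = 1
  · rw [q]; exact one_mem _
  · exact (mul_mem_cancel_right m).1 (k1 r' hr' q)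

end Fls

open scoped IsMulCommutative in
theorem false3 (ac : AC φ) {Γ K : Set G} {R : Subgroup G} (h : Fd Γ K R)
    (hn : ∀ k ∈ K, k ∈ 𝐍(closure Γ)) (tri : Tri Γ) (hd : ∀ a, φ a '' Γ = Γ ∨
      (φ a '' Γ ⊆ centralizer K ∧ ∀ x ∈ Γ, ∀ y ∈ Γ, Commute x (φ a y))) : False := by
  classical
  have im : ∀ (a b : A) (X : Set G), φ a '' (φ b '' X) = φ (a * b) '' X := fun a b X => by
    rw [← Set.image_comp, map_mul]; rfl
  have im1 : ∀ X : Set G, φ 1 '' X = X := fun X => by rw [map_one]; exact Set.image_id X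
  have hd' : ∀ a b, φ b '' Γ = φ a '' Γ ∨ (φ b '' Γ ⊆ centralizer (φ a '' K) ∧
      ∀ x ∈ φ a '' Γ, ∀ y ∈ φ b '' Γ, Commute x y) := fun a b => by
    obtain ⟨c, rfl⟩ : ∃ c, b = a * c := ⟨a⁻¹ * b, by group⟩
    rw [← im]
    refine (hd c).imp (fun e => by rw [e]) fun ⟨e1, e2⟩ => ⟨?_, ?_⟩
    · rintro _ ⟨x, hx, rfl⟩
      exact (N2.mem_cen _).2 (e1 hx)
    · rintro _ ⟨x, hx, rfl⟩ _ ⟨_, ⟨y, hy, rfl⟩, rfl⟩
      exact (e2 x hx y hy).map _
  have un : ∀ a (X : Set G), φ a '' (⋃ b, φ b '' X) = ⋃ b, φ b '' X := fun a X => by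
    rw [Set.image_iUnion]
    simp only [im]
    exact (Equiv.mulLeft a).surjective.iUnion_comp fun b => φ b '' X
  obtain ⟨Z, hZ⟩ : ∃ Z, Z = closure (⋃ a, φ a '' Γ) := ⟨_, rfl⟩
  have : IsMulCommutative Z := hZ ▸ isMulCommutative_closure fun x hx y hy => by
    obtain ⟨a, hx⟩ := Set.mem_iUnion.1 hx
    obtain ⟨b, hy⟩ := Set.mem_iUnion.1 hy
    exact (hd' a b).elim (fun e => (N2.fd_map (φ a) h).ab x hx y (e ▸ hy)) fun e => e.2 x hx y hy
  have sub : ∀ a, closure (φ a '' Γ) ≤ Z := fun a =>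
    hZ ▸ closure_mono (Set.subset_iUnion (fun a => φ a '' Γ) a)
  obtain ⟨L, hL⟩ : ∃ L, L = Z ⊓ centralizer (⋃ a, φ a '' K) := ⟨_, rfl⟩
  have LZ : L ≤ Z := hL ▸ inf_le_left
  have LK : ∀ a, L ≤ centralizer (φ a '' K) := fun a =>
    hL ▸ inf_le_right.trans (centralizer_le (Set.subset_iUnion (fun a => φ a '' K) a))
  let ι := {i : Set G // ∃ a, φ a '' Γ = i}
  have : Fintype ι := Fintype.ofFinite ι
  have nZ : ∀ a, ∀ k ∈ φ a '' K, k ∈ 𝐍(Z) := fun a k hk => mem_normalizer_of_cj_le (by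
    rw [hZ, MonoidHom.map_closure, closure_le, ← hZ]
    rintro _ ⟨x, hx0, rfl⟩
    obtain ⟨b, hx⟩ := Set.mem_iUnion.1 hx0
    clear hx0
    show k * x * k⁻¹ ∈ Z
    rcases hd' a b with e | e
    · obtain ⟨k, hk, rfl⟩ := hk
      rw [e] at hx
      obtain ⟨y, hy, rfl⟩ := hx
      rw [← map_inv, ← map_mul, ← map_mul]
      exact sub a ((MonoidHom.map_closure (φ a).toMonoidHom Γ).le (mem_map_of_mem _
        (conj_mem_of_mem_normalizer (hn k hk) (subset_closure hy))))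
    · rw [e.1 hx k hk, mul_inv_cancel_right]
      exact sub b (subset_closure hx))
  have good : ∀ a, ∀ k ∈ φ a '' K, k ∈ 𝐍(Z) ⊓ 𝐂(L) ∧
      ∀ j : ι, j.1 ≠ φ a '' Γ → k ∈ centralizer j.1 :=
    fun a k hk => ⟨⟨nZ a k hk, fun l hl => (LK a hl k hk).symm⟩, fun ⟨_, b, e⟩ hj x hx => by
      subst e
      exact (((hd' a b).resolve_left hj).1 hx k hk).symm⟩
  have FL : ∀ a, (∀ b, φ b '' Γ = φ a '' Γ →
      closure (φ a '' Γ) ⊓ centralizer (φ a '' K) ≤ centralizer (φ b '' K)) →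
      closure (φ a '' Γ) ⊓ centralizer (φ a '' K) ≤ L := fun a c f hf =>
    hL ▸ ⟨sub a hf.1, fun x hx => by
      obtain ⟨b, hx⟩ := Set.mem_iUnion.1 hx
      exact (hd' b a).elim (fun q => c b q.symm hf x hx) fun q => (closure_le _).2 q.1 hf.1 x hx⟩
  have key : ∀ i : ι, ∀ z ∈ i.1, ∀ z' ∈ i.1, ∃ g ∈ 𝐍(Z) ⊓ 𝐂(L),
      (∀ j : ι, j ≠ i → g ∈ centralizer j.1) ∧
      ∃ l ∈ L, z' = g * z * g⁻¹ * l := by
    rintro ⟨_, a, rfl⟩ z hz z' hz'
    by_cases c : ∀ b, φ b '' Γ = φ a '' Γ →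
        closure (φ a '' Γ) ⊓ centralizer (φ a '' K) ≤ centralizer (φ b '' K)
    · obtain ⟨k, hk, f, hf, e⟩ := N2.key1 (N2.fd_map (φ a) h) hz hz'
      exact ⟨k, (good a k hk).1, fun j hj => (good a k hk).2 j fun q => hj (Subtype.ext q), f,
        FL a c hf, e⟩
    · push Not at c
      obtain ⟨b, e, c⟩ := c
      have hb := N2.fd_map (φ b) h
      rw [e] at hb
      have n : ¬ closure (φ a '' Γ) ⊓ centralizer (φ a '' K) ≤
          closure (φ a '' Γ) ⊓ centralizer (φ b '' K) := fun q => c (q.trans inf_le_right)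
      obtain ⟨k, hk, k', hk', q⟩ := N2.key2 (N2.fd_map (φ a) h) hb (fun q => n (eq_of_le_of_card_ge q (by
        rw [← N2.map_F, ← e, ← N2.map_F, card_map_of_injective (φ a).injective,
          card_map_of_injective (φ b).injective])).ge) n hz hz'
      exact ⟨k * k', mul_mem (good a k hk).1 (good b k' hk').1, fun j hj =>
        mul_mem ((good a k hk).2 j fun q => hj (Subtype.ext q))
          ((good b k' hk').2 j fun q => hj (Subtype.ext (q.trans e))), 1, one_mem _, by rw [mul_one, q]⟩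
  have ex : ∀ i : ι, ∃ z : Z, (z : G) ∈ i.1 := by
    rintro ⟨_, a, rfl⟩
    obtain ⟨z, hz⟩ := h.ne.image (φ a)
    exact ⟨⟨z, sub a (subset_closure hz)⟩, hz⟩
  choose c hc using ex
  have hZ' : ∀ a, Z.map (φ a).toMonoidHom = Z := fun a => by
    rw [hZ, MonoidHom.map_closure]
    exact congrArg Subgroup.closure (un a Γ)
  have iZ : Iv φ Z := fun a x hx => (hZ' a).le (mem_map_of_mem _ hx)
  have iL : Iv φ L := fun a x hx => by
    have : L.map (φ a).toMonoidHom = L := by rw [hL, hZ, N2.map_F, un, un]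
    exact this.le (mem_map_of_mem _ hx)
  have Z2 : IsPGroup 2 Z := by
    subst hZ
    refine fun z => ⟨1, Subtype.ext ((pow_two _).trans (Fls.sq_cl (fun x hx => ?_) z.2))⟩
    obtain ⟨a, hx⟩ := Set.mem_iUnion.1 hx
    exact (N2.fd_map (φ a) h).sq x hx
  refine absurd (ac.fp (iZ.norm.inf iL.cent) iL Z2 LZ
    (le_inf le_normalizer fun z hz l hl => setLike_mul_comm (LZ hl) hz) inf_le_left
    (inf_le_right.trans (centralizer_le_normalizer _)) (x := ((∏ i, c i : Z) : G)) (SetLike.coe_mem _)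
    (fun a => ?_) fun M LM _ hM => ?_) fun hx => ?_
  · let ψ : Z →* Z := ((φ a).toMonoidHom.comp Z.subtype).codRestrict Z fun x =>
      (hZ' a).le (mem_map_of_mem _ x.2)
    let σ : ι → ι := fun i => ⟨φ a⁻¹ '' i.1, i.2.elim fun b e => ⟨a⁻¹ * b, by rw [← im, e]⟩⟩
    have hσ : Function.Bijective σ := Finite.injective_iff_bijective.1 fun i j e =>
      Subtype.ext ((φ a⁻¹).injective.image_injective (congrArg Subtype.val e))
    obtain ⟨g, hg, -, l, hl, e⟩ := Fls.prod_rel LZ inf_le_right key (c' := fun j => ψ (c (σ j))) hc (fun j => by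
      have := Set.mem_image_of_mem (φ a) (hc (σ j))
      rwa [im, mul_inv_cancel, im1] at this) Finset.univ
    refine ⟨g, hg, l, hl, Eq.trans ?_ e⟩
    rw [hσ.prod_comp fun j => ψ (c j), ← map_prod]
    rfl
  · have RM : ∀ a, R.map (φ a).toMonoidHom ≤ M := fun a => by
      let i : ι := ⟨_, a, rfl⟩
      refine Fls.le_of (N2.fd_map (φ a) h) ?_ (hc i) fun k hk => ?_
      · obtain ⟨x, hx, y, hy, hxy⟩ := tri
        exact ⟨_, ⟨x, hx, rfl⟩, _, ⟨y, hy, rfl⟩, _, hxy, map_mul _ _ _⟩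
      have b : Commute ((∏ j ∈ Finset.univ.erase i, c j : Z) : G) k :=
        mem_centralizer_singleton_iff.1 (prod_mem (S := (centralizer {k}).subgroupOf Z) fun j hj =>
          mem_centralizer_singleton_iff.2 ((good a k hk).2 j
            (fun q => Finset.ne_of_mem_erase hj (Subtype.ext q)) _ (hc j)))
      have := hM k (good a k hk).1
      rw [← Finset.mul_prod_erase _ _ (Finset.mem_univ i), coe_mul, commutatorElement_def,
        mul_assoc k, mul_assoc (c i : G), b.inv_right.eq] at this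
      simpa only [mul_assoc, mul_inv_rev, mul_inv_cancel_left] using this
    refine (?_ : Z ≤ M) (SetLike.coe_mem _)
    rw [hZ, closure_le]
    intro z hz
    obtain ⟨a, hz⟩ := Set.mem_iUnion.1 hz
    obtain ⟨r, hr, f, hf, rfl⟩ := (N2.fd_map (φ a) h).dec z (subset_closure hz)
    refine mul_mem (RM a hr) ?_
    by_cases c : ∀ b, φ b '' Γ = φ a '' Γ →
        closure (φ a '' Γ) ⊓ centralizer (φ a '' K) ≤ centralizer (φ b '' K)
    · exact LM (FL a c hf)
    · push Not at c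
      obtain ⟨b, e, c⟩ := c
      have hb := N2.fd_map (φ b) h
      rw [e] at hb
      exact RM b ((N2.half hb (N2.fd_map (φ a) h) fun q => c (q.trans inf_le_right)).1 hf)
  · let i0 : ι := ⟨Γ, 1, im1 Γ⟩
    have hx' := LK 1 hx
    rw [← Finset.mul_prod_erase _ _ (Finset.mem_univ i0), coe_mul, im1] at hx'
    refine h.reg _ (hc i0) ((mul_mem_cancel_right
      (prod_mem (S := (centralizer K).subgroupOf Z) fun j hj => ?_)).1 hx')
    obtain ⟨b, e⟩ := j.2
    exact ((hd b).resolve_left fun q =>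
      Finset.ne_of_mem_erase hj (Subtype.ext (e.symm.trans q))).1 (e ▸ hc j)

end H50.AN
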