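import Mathlib
import Cfsg.Agent.Base
import Cfsg.Agent.Lib.Acn.Defs
import Cfsg.Agent.Lib.Fpf.N4

set_option autoImplicit false
set_option linter.unusedSectionVars false
set_option linter.style.haveILetI false

namespace H50.AN

open Subgroup H69 H68B Cfsg H42.FP
open H1.OA (Cfg)
open H2 (subAut quotAut)
open scoped commutatorElement

universe u

local notation "𝐁(" T ")" => baumannSubgroupOf 2 T
local notation "𝐉(" T ")" => thompsonSubgroupOf 2 T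
local notation "𝐕(" T ")" => omegaOneCenter 2 T

variable {G : Type u} [Group G] [Finite G] {B Q Q' : Subgroup G} {z z' u u' y : G}

namespace Two

theorem idx2 {H K : Subgroup G} (hK : K ≤ H) (hc : Nat.card H = 2 * Nat.card K) {a b : G}
    (ha : a ∈ H) (hb : b ∈ H) (ha' : a ∉ K) (hb' : b ∉ K) : a * b ∈ K := by
  have h1 := (K.subgroupOf H).index_mul_card
  rw [Nat.card_congr (subgroupOfEquivOfLe hK).toEquiv, hc] at h1
  exact (mul_mem_iff_of_index_two (Nat.eq_of_mul_eq_mul_right Nat.card_pos h1) (a := ⟨a, ha⟩)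
    (b := ⟨b, hb⟩)).2 (iff_of_false ha' hb')

variable {Z W : Subgroup G}

theorem cmW {q : ℕ} (c : Cfg q B Z Q W) {x b : G} (hx : x ∈ W) (hb : b ∈ B) : ⁅b, x⁆ ∈ W :=
  mul_mem (c.norm b hb x hx) (inv_mem hx)

theorem cm_symm {q : ℕ} (c : Cfg q B Z Q W) {x b : G} (hx : x ∈ W) (hb : b ∈ B) :
    ⁅x, b⁆ = ⁅b, x⁆ := by
  rw [← commutatorElement_inv b x, inv_eq_of_mul_eq_one_right (c.sq _ (cmW c hx hb))]

theorem cm_eq (c : Cfg 2 B Z Q W) {x b x' b' : G} (hx : x ∈ W) (hx1 : x ∉ Z) (hb : b ∈ B)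
    (hb1 : b ∉ Q) (hx' : x' ∈ W) (hx1' : x' ∉ Z) (hb' : b' ∈ B) (hb1' : b' ∉ Q) :
    ⁅b', x'⁆ = ⁅b, x⁆ := by
  have h1 := idx2 c.ZX c.cardX (inv_mem hx) hx' (fun e => hx1 (inv_mem_iff.1 e)) hx1'
  have h2 := idx2 c.QB c.cardB (inv_mem hb) hb' (fun e => hb1 (inv_mem_iff.1 e)) hb1'
  have h3 := (c.Q_iff _ (c.QB h2)).1 h2 x' hx'
  have h4 := ((c.Z_iff _).1 h1).2.2 b hb
  calc ⁅b', x'⁆ = b * (b⁻¹ * b' * x') * b'⁻¹ * x'⁻¹ := by rw [commutatorElement_def]; group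
    _ = b * x * b⁻¹ * (b * (x⁻¹ * x')) * b⁻¹ * x'⁻¹ := by rw [← h3]; group
    _ = _ := by rw [h4, commutatorElement_def]; group

end Two

theorem exists_tw {T N : Subgroup G} (hT : IsSylowIn 2 T N) (hN : 𝐍(Q) ≤ N)
    (c : Cfg 2 𝐁(T) 𝐕(𝐁(T)) Q 𝐕(Q)) {x b k : G} (hx : x ∈ 𝐕(Q)) (hb : b ∈ 𝐁(T)) (hk : k ∈ 𝐍(Q))
    (hne : ¬ Commute k ⁅x, b⁆) : Tw 𝐁(T) Q ⁅x, b⁆ (k * ⁅x, b⁆ * k⁻¹) := by
  have z1 : ⁅x, b⁆ ≠ 1 := fun e => hne (e ▸ Commute.one_right k)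
  have hx1 : x ∉ 𝐕(𝐁(T)) := fun e =>
    z1 (commutatorElement_eq_one_iff_mul_comm.2 (oc_le_cent _ e b hb).symm)
  have hb1 : b ∉ Q := fun e =>
    z1 (commutatorElement_eq_one_iff_mul_comm.2 (oc_le_cent _ hx b e).symm)
  have cm : ∀ x' ∈ 𝐕(Q), x' ∉ 𝐕(𝐁(T)) → ∀ b' ∈ 𝐁(T), b' ∉ Q → ⁅b', x'⁆ = ⁅x, b⁆ :=
    fun x' h1 h2 b' h3 h4 =>
      (Two.cm_eq c hx hx1 hb hb1 h1 h2 h3 h4).trans (Two.cm_symm c hx hb).symm
  have zW : ⁅x, b⁆ ∈ 𝐕(Q) := Two.cm_symm c hx hb ▸ Two.cmW c hx hb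
  have zZ : ⁅x, b⁆ ∈ 𝐕(𝐁(T)) := by
    by_contra e
    have h1 := cm _ zW e b hb hb1
    rw [commutatorElement_def b, mul_inv_eq_iff_eq_mul, c.sq _ zW, conj_eq_one_iff] at h1
    exact z1 h1
  refine ⟨c, cm, zZ, fun g hg hc => ?_, ⟨k, hk, rfl⟩, fun e => hne (mul_inv_eq_iff_eq_mul.1 e)⟩
  have pB : IsPGroup 2 𝐁(T) := hT.isP.to_le (bau_le T)
  obtain ⟨R, hR, hBR⟩ := exists_isSylowIn_le (L := 𝐍(Q) ⊓ centralizer {⁅x, b⁆}) pB
    (le_inf c.normQ fun t ht => mem_centralizer_singleton_iff.2 (oc_le_cent _ zZ t ht))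
  obtain ⟨r, hr, h1⟩ := hR.exists_cj_le (isPGroup_cj pB g) (le_inf (cj_le_of_mem c.normQ hg) hc)
  have h2 := bau_eq_of_pgroup hT hR.isP (hR.le.trans (inf_le_left.trans hN)) hBR
  rw [cj_cj, ← h2] at h1
  have h3 : r * g ∈ 𝐍(𝐁(T)) := h2 ▸ cj_eq_self_iff.1 (bau_cj_eq h1)
  have h4 : r * g ∈ 𝐍(Q) := mul_mem hr.1 hg
  have h5 := cm _ (conj_mem_of_mem_normalizer (le_normalizer_oc le_rfl h4) hx)
    (fun e => hx1 ((mem_normalizer_iff.1 (le_normalizer_oc le_rfl h3) x).2 e)) _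
    (conj_mem_of_mem_normalizer h3 hb) fun e => hb1 ((mem_normalizer_iff.1 h4 b).2 e)
  rw [← conjugate_commutatorElement, ← Two.cm_symm c hx hb] at h5
  have h6 := mem_centralizer_singleton_iff.1 hr.2
  calc g * ⁅x, b⁆ * g⁻¹ = r⁻¹ * (r * g * ⁅x, b⁆ * (r * g)⁻¹) * r := by group
    _ = _ := by rw [h5, mul_assoc, ← h6, inv_mul_cancel_left]

theorem Two.key (t : Tw B Q z u) {g h : G} (hg : g ∈ 𝐍(Q)) (hh : h ∈ 𝐍(Q))
    (e : g * z * g⁻¹ ∈ 𝐂(B ^ᶜ h)) : h * z * h⁻¹ = g * z * g⁻¹ := by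
  have h1 := t.wc (g⁻¹ * h) (mul_mem (inv_mem hg) hh) fun x hx => by
    obtain ⟨b, hb, rfl⟩ := mem_cj'.1 hx
    have := e _ (cj_mem h hb)
    rw [mem_centralizer_singleton_iff]
    calc _ = g⁻¹ * (h * b * h⁻¹ * (g * z * g⁻¹)) * g := by group
      _ = _ := by rw [this]; group
  calc _ = g * (g⁻¹ * h * z * (g⁻¹ * h)⁻¹) * g⁻¹ := by group
    _ = _ := by rw [h1]

theorem Tw.mem (t : Tw B Q z u) : u ∈ 𝐕(Q) ∧ u ∉ 𝐂(B) := by
  obtain ⟨k, hk, rfl⟩ := t.orb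
  refine ⟨conj_mem_of_mem_normalizer (le_normalizer_oc le_rfl hk) (t.cfg.ZX t.zZ), fun e => t.ne ?_⟩
  simpa using (Two.key t hk (one_mem _) (by rwa [cj_one])).symm

theorem Two.nZ (t : Tw B Q z u) : u ∉ 𝐕(B) := fun e => t.mem.2 (oc_le_cent B e)

theorem Tw.map (t : Tw B Q z u) (γ : MulAut G) :
    Tw (B.map γ.toMonoidHom) (Q.map γ.toMonoidHom) (γ z) (γ u) := by
  have hi : Function.Injective γ.toMonoidHom := γ.injective
  refine ⟨?_, ?_, ?_, fun g hg hc => ?_, ?_, fun e => t.ne (γ.injective e)⟩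
  · have := C3.cfg_map hi t.cfg
    rwa [H59.MP.map_oc hi, H59.MP.map_oc hi] at this
  · rw [← H59.MP.map_oc hi, ← H59.MP.map_oc hi]
    rintro _ ⟨x, hx, rfl⟩ h1 _ ⟨b, hb, rfl⟩ h2
    rw [← map_commutatorElement, t.cm x hx (fun e => h1 (mem_map_of_mem _ e)) b hb
      fun e => h2 (mem_map_of_mem _ e)]
    rfl
  · rw [← H59.MP.map_oc hi]
    exact mem_map_of_mem γ.toMonoidHom t.zZ
  · obtain ⟨g, rfl⟩ := γ.surjective g
    have h1 : g ∈ 𝐍(Q) := mem_normalizer_iff.2 fun x => by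
      have := mem_normalizer_iff.1 hg (γ x)
      rwa [← map_inv, ← map_mul, ← map_mul, show ∀ a, γ a ∈ Q.map γ.toMonoidHom ↔ a ∈ Q from
        fun a => mem_map_iff_mem hi, show ∀ a, γ a ∈ Q.map γ.toMonoidHom ↔ a ∈ Q from
        fun a => mem_map_iff_mem hi] at this
    rw [← map_inv, ← map_mul, ← map_mul, t.wc g h1 fun x hx => ?_]
    have h2 : γ x ∈ (B.map γ.toMonoidHom) ^ᶜ (γ g) :=
      map_cj γ.toMonoidHom B g ▸ mem_map_of_mem γ.toMonoidHom hx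
    have h3 := mem_centralizer_singleton_iff.1 (hc h2)
    rw [← map_mul, ← map_mul] at h3
    exact mem_centralizer_singleton_iff.2 (γ.injective h3)
  · obtain ⟨k, hk, rfl⟩ := t.orb
    exact ⟨γ k, le_normalizer_map γ.toMonoidHom (mem_map_of_mem _ hk), by simp⟩

theorem Tw.uniq (t : Tw B Q z u) (t' : Tw B Q z' u') : z' = z ∧ (u' = u ∨ u' = u * z) := by
  obtain ⟨b, hb, hb'⟩ : ∃ b ∈ B, b ∉ Q := by
    by_contra e
    push Not at e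
    exact t.mem.2 fun b hb => oc_le_cent Q t.mem.1 b (e b hb)
  have h1 := t.cm u t.mem.1 (Two.nZ t) b hb hb'
  obtain rfl : z' = z := (t'.cm u t.mem.1 (Two.nZ t) b hb hb').symm.trans h1
  refine ⟨rfl, or_iff_not_imp_left.2 fun hn => ?_⟩
  obtain ⟨k, hk, e⟩ := t.orb
  obtain ⟨h, hh, e'⟩ := t'.orb
  have hW : 𝐕(Q) ^ᶜ h = 𝐕(Q) := cj_eq_of_mem_normalizer (le_normalizer_oc le_rfl hh)
  have hZ : 𝐕(B) ^ᶜ h ≤ 𝐂(B ^ᶜ h) := cj_centralizer B h ▸ cj_mono h (oc_le_cent B)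
  have h2 : u * z' ∈ 𝐕(B) ^ᶜ h := Two.idx2 (hW ▸ cj_mono h t.cfg.ZX)
    (by rw [card_cj, t.cfg.cardX]) t.mem.1 (t.cfg.ZX t.zZ)
    (fun m => hn (e' ▸ e ▸ Two.key t hk hh (hZ (e ▸ m))))
    fun m => t'.ne (by simpa [e'] using Two.key t (one_mem _) hh (by simpa using hZ m))
  have h3 : b * k * z' * (b * k)⁻¹ = u * z' := by
    rw [oc_le_cent B t.zZ u (t.cfg.QB (oc_le Q t.mem.1))]
    calc _ = b * (k * z' * k⁻¹) * b⁻¹ := by group
      _ = ⁅b, u⁆ * u := by rw [e, commutatorElement_def]; group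
      _ = _ := by rw [h1]
  rw [← e', ← h3]
  exact Two.key t (mul_mem (t.cfg.normQ hb) hk) hh (h3 ▸ hZ h2)

theorem Tw.pair (t : Tw B Q z u) (t' : Tw B Q' z' y) (hn : ¬ 𝐕(Q') ≤ Q) : z' = z ∧ ⁅y, u⁆ = z := by
  have h1 : u ∉ Q' := fun e => Two.nZ t ((t'.cfg.pair t.cfg hn).1 u t.mem.1 e)
  have h2 : y ∉ Q := fun e =>
    Two.nZ t' ((t.cfg.pair t'.cfg (t'.cfg.nle_symm t.cfg hn)).1 y t'.mem.1 e)
  have hu := t.cfg.QB (oc_le Q t.mem.1)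
  have hy := t'.cfg.QB (oc_le Q' t'.mem.1)
  have h3 := t.cm u t.mem.1 (Two.nZ t) y hy h2
  exact ⟨by rw [← t'.cm y t'.mem.1 (Two.nZ t') u hu h1, Two.cm_symm t.cfg t.mem.1 hy, h3], h3⟩

theorem Two.facts (t : Tw B Q z u) (t' : Tw B Q' z' y) (hn : ¬ 𝐕(Q') ≤ Q) :
    (u * y)⁻¹ = y * u ∧ y * u = u * y * z ∧ u * z = z * u ∧ y * z = z * y ∧ z * z = 1 := by
  have hu := t.cfg.QB (oc_le Q t.mem.1)
  have hy := t'.cfg.QB (oc_le Q' t'.mem.1)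
  refine ⟨?_, ?_, oc_le_cent B t.zZ u hu, oc_le_cent B t.zZ y hy, t.cfg.sq z (t.cfg.ZX t.zZ)⟩
  · rw [mul_inv_rev, inv_eq_of_mul_eq_one_right (t.cfg.sq u t.mem.1),
      inv_eq_of_mul_eq_one_right (t'.cfg.sq y t'.mem.1)]
  · rw [oc_le_cent B t.zZ _ (mul_mem hu hy), ← (t.pair t' hn).2, commutatorElement_def]
    group

theorem Tw.w (t : Tw B Q z u) (t' : Tw B Q' z' y) (hn : ¬ 𝐕(Q') ≤ Q) (γ : MulAut G)
    (hγ : B.map γ.toMonoidHom = B) :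
    (γ (u * y) = u * y ∨ γ (u * y) = (u * y)⁻¹) ∨
      𝐕(Q).map γ.toMonoidHom ≤ Q ∧ 𝐕(Q').map γ.toMonoidHom ≤ Q := by
  have hi : Function.Injective γ.toMonoidHom := γ.injective
  obtain rfl := (t.pair t' hn).1
  obtain ⟨f1, f2, f3, f4, f5⟩ := Two.facts t t' hn
  have s := t.map γ
  have s' := t'.map γ
  rw [hγ] at s s'
  have hd : ¬ 𝐕(Q'.map γ.toMonoidHom) ≤ Q.map γ.toMonoidHom := by
    rwa [← H59.MP.map_oc hi, map_le_map_iff_of_injective hi]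
  have key : ∀ {Q₁ Q₂ : Subgroup G}, Cfg 2 B 𝐕(B) Q₁ 𝐕(Q₁) → Cfg 2 B 𝐕(B) Q₂ 𝐕(Q₂) →
      ¬ 𝐕(Q₁) ≤ Q₂ → ¬ 𝐕(Q₁) ≤ Q → Q₁ = Q' ∧ Q₂ = Q := fun d d' hd e =>
    ⟨by rw [cfg_Q d, t.cfg.uniq t'.cfg d (t'.cfg.nle_symm t.cfg hn) (d.nle_symm t.cfg e),
      ← cfg_Q t'.cfg], by rw [cfg_Q d', d.uniq t.cfg d' e hd, ← cfg_Q t.cfg]⟩
  have g1 : u * z' * y = y * u := by rw [f2, mul_assoc, ← f4, mul_assoc]
  have g2 : y * u * z' = u * y := by rw [f2, mul_assoc, f5, mul_one]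
  rw [H59.MP.map_oc hi, H59.MP.map_oc hi, map_mul, f1]
  by_cases e1 : 𝐕(Q.map γ.toMonoidHom) ≤ Q
  · by_cases e2 : 𝐕(Q'.map γ.toMonoidHom) ≤ Q
    · exact .inr ⟨e1, e2⟩
    obtain ⟨a1, a2⟩ := key s'.cfg s.cfg hd e2
    rw [a1] at s'
    rw [a2] at s
    left
    rcases (t.uniq s).2 with b1 | b1 <;> rcases (t'.uniq s').2 with b2 | b2 <;> rw [b1, b2]
    · exact .inl rfl
    · exact .inr (by rw [f2, mul_assoc])
    · exact .inr g1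
    · exact .inl (by rw [← mul_assoc, g1, g2])
  · obtain ⟨a1, a2⟩ := key s.cfg s'.cfg (s'.cfg.nle_symm s.cfg hd) e1
    rw [a1] at s
    rw [a2] at s'
    left
    have g3 : y * z' * u = u * y := by rw [mul_assoc, ← f3, ← mul_assoc, g2]
    rcases (t'.uniq s).2 with b1 | b1 <;> rcases (t.uniq s').2 with b2 | b2 <;> rw [b1, b2]
    · exact .inr rfl
    · exact .inl (by rw [← mul_assoc, g2])
    · exact .inl g3
    · exact .inr (by rw [← mul_assoc, g3, f2])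

variable {A : Type*} [Group A] [Finite A] {φ : A →* MulAut G} {S : Subgroup G}

/-- a transposition of an orbit is not in the commutator subgroup -/
theorem Dat3.tr (d : Dat3 φ S) {w : G} (hu : u ∈ S) (h1 : u * w * u⁻¹ = w⁻¹) (h2 : w⁻¹ ≠ w)
    (h : ∀ a, (φ a w = w ∨ φ a w = w⁻¹) ∨ Commute u (φ a w)) : False := by
  classical
  obtain ⟨a, ha, e⟩ := d.inn u hu
  letI : MulAction A G := MulAction.compHom G φ
  have hs : ∀ (b : A) (x : G), b • x = φ b x := fun _ _ => rfl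
  haveI := Fintype.ofFinite (MulAction.orbit A w)
  let p : MulAction.orbit A w := ⟨w, MulAction.mem_orbit_self w⟩
  let q : MulAction.orbit A w := ⟨w⁻¹, a, by simp only [hs, e, h1]⟩
  have h3 : u * w⁻¹ * u⁻¹ = w := by rw [← conj_inv, h1, inv_inv]
  have h4 : MulAction.toPermHom A (MulAction.orbit A w) a = Equiv.swap p q := by
    ext x
    change φ a x = _
    rw [e]
    by_cases x1 : x = p
    · rw [x1, Equiv.swap_apply_left, h1]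
    by_cases x2 : x = q
    · rw [x2, Equiv.swap_apply_right, h3]
    rw [Equiv.swap_apply_of_ne_of_ne x1 x2]
    obtain ⟨_, b, rfl⟩ := x
    rcases h b with (k | k) | k
    · exact absurd (Subtype.ext k) x1
    · exact absurd (Subtype.ext k) x2
    · exact mul_inv_eq_iff_eq_mul.2 k
  have h5 := Abelianization.commutator_subset_ker
    (Equiv.Perm.sign.comp (MulAction.toPermHom A (MulAction.orbit A w))) ha
  rw [MonoidHom.mem_ker, MonoidHom.comp_apply, h4,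
    Equiv.Perm.sign_swap fun k => h2 (congrArg Subtype.val k).symm] at h5
  exact absurd h5 (by decide)

theorem two_np (d : Dat3 φ S) (t : Tw 𝐁(S) Q z u) (a : A) (hn : ¬ 𝐕(Q).map (φ a).toMonoidHom ≤ Q) :
    False := by
  have hB : ∀ b, 𝐁(S).map (φ b).toMonoidHom = 𝐁(S) := fun b => by
    rw [H59.MP.map_bau (φ b).injective, d.inv.map_eq]
  have t' := t.map (φ a)
  rw [hB] at t'
  rw [H59.MP.map_oc (φ a).injective] at hn
  obtain ⟨f1, f2, -⟩ := Two.facts t t' hn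
  refine d.tr (w := u * φ a u) (bau_le S (t.cfg.QB (oc_le Q t.mem.1))) ?_ (fun e => ?_) fun b => ?_
  · rw [f1, ← mul_assoc, t.cfg.sq u t.mem.1, one_mul,
      inv_eq_of_mul_eq_one_right (t.cfg.sq u t.mem.1)]
  · rw [f1, f2, mul_eq_left] at e
    obtain ⟨k, -, hk⟩ := t.orb
    exact t.ne (by rw [← hk, e]; simp)
  · refine (t.w t' hn (φ b) (hB b)).imp_right fun k => ?_
    rw [map_mul]
    exact (oc_le_cent Q t.mem.1 _ (mul_mem (k.1 (mem_map_of_mem _ t.mem.1))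
      (k.2 (mem_map_of_mem _ t'.mem.1)))).symm

end H50.AN
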