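import Mathlib
import Cfsg.Agent.Base
import Cfsg.Agent.Lib.Acn.Two
import Cfsg.Agent.Lib.Fpf.F3

/-! The case `q = 2` when the partner is conjugate in the Sylow subgroup. -/

set_option autoImplicit false
set_option linter.unusedSectionVars false
set_option linter.style.haveILetI false

namespace H50.AN

open Subgroup H69 H68B Cfsg H42 H42.FP H42.FP.P4a
open H1.OA (Cfg)
open H2 (subAut quotAut)
open scoped commutatorElement

universe u

local notation "𝐁(" T ")" => baumannSubgroupOf 2 T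
local notation "𝐉(" T ")" => thompsonSubgroupOf 2 T
local notation "𝐕(" T ")" => omegaOneCenter 2 T

theorem bk_four {S : Type*} [Group S] [Finite S] {X X₀ : Subgroup S} {s u : S} (hS : IsPGroup 2 S)
    (h : Bk X X₀ s) (hu : u ∈ X) (hu' : u ∉ 𝐂(X ^ᶜ s)) (γ : MulAut S) (hc : ¬ Commute u (γ u))
    (h4 : (u * γ u) ^ 4 = 1) {t : S} (ht : t ∈ 𝐍(X)) : γ t ∈ 𝐍(X) := by
  obtain ⟨E, Ec, XE, p, n, B⟩ := N1.exists_bt hS h
  have hE : ∀ a : MulAut S, ∀ x ∈ E, MonoidHom.id _ a x ∈ E := fun a x hx =>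
    characteristic_iff_le_comap.1 Ec a hx
  have XE' : ∀ a : MulAut S, X.map a.toMonoidHom ≤ E := by
    rintro a _ ⟨x, hx, rfl⟩
    exact hE _ x (XE hx)
  have ss : (X ^ᶜ s) ^ᶜ s = X := by rw [cj_cj, cj_eq_of_mem_normalizer h.ss]
  have h' := B.map (subAut (MonoidHom.id _) E hE (MulAut.conj s))
  rw [map_sbg, map_sbg, ss] at h'
  let δ := subAut (MonoidHom.id _) E hE γ
  have k1 : (⟨u, XE hu⟩ : E) ∈ X.subgroupOf E := hu
  have k2 : (⟨u, XE hu⟩ : E) ∉ 𝐂((X ^ᶜ s).subgroupOf E) := by rwa [cent_sub (XE' _)]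
  have f := (B.map δ).four (hS.to_subgroup E) (h'.map δ) B h' ((mem_map_iff δ).2 k1)
    (by rwa [map_cent, mem_map_iff]) k1 k2 (fun l => hc (congrArg Subtype.val l.symm))
    (Subtype.ext (by
      change (γ u * u) ^ 4 = 1
      rw [show γ u * u = u⁻¹ * (u * γ u) * u⁻¹⁻¹ by group, conj_pow, h4]; group))
  have Y1 : (X ^ᶜ s).map γ.toMonoidHom ≤ E := by rw [map_map]; exact XE' (γ * MulAut.conj s)
  rw [map_sbg, cent_sub XE, cent_sub Y1, subgroupOf_inj] at f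
  have vc : ∀ K : Subgroup S, 𝐕((⊤ : Subgroup S)) ≤ 𝐂(K) := fun K =>
    (oc_le_cent ⊤).trans (centralizer_anti le_top)
  have iv : Iv (MonoidHom.id (MulAut S)) (𝐕((⊤ : Subgroup S)) ⊔ E) := Iv.top.oc.sup hE
  haveI Ec' : (𝐕((⊤ : Subgroup S)) ⊔ E).Characteristic := characteristic_iff_le_comap.2 iv
  refine h.nrm _ Ec' (XE.trans le_sup_right) le_sup_left ?_
  rw [inf_comm, dedekind_right le_normalizer_of_normal (vc _), inf_comm E, f, inf_comm _ E,
    ← dedekind_right le_normalizer_of_normal (vc _)]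
  exact le_normalizer_inf le_normalizer_of_normal (le_normalizer_centralizer le_rfl)
    (le_normalizer_map _ (mem_map_of_mem γ.toMonoidHom (h.nn ht)))

theorem exists_eight {G : Type*} [Group G] (m : ℕ) : ∀ c : G, c ^ 2 ^ m = 1 → c ^ 4 ≠ 1 →
    ∃ j : ℕ, (c ^ j) ^ 8 = 1 ∧ (c ^ j) ^ 4 ≠ 1 := by
  induction m with
  | zero => intro c h1 h2; rw [pow_zero, pow_one] at h1; exact absurd (by rw [h1, one_pow]) h2
  | succ m ih =>
    intro c h1 h2
    by_cases h8 : c ^ 8 = 1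
    · exact ⟨1, by rwa [pow_one], by rwa [pow_one]⟩
    · obtain ⟨j, h⟩ := ih (c ^ 2) (by rwa [← pow_mul, ← pow_succ']) (by rwa [← pow_mul])
      exact ⟨2 * j, by rwa [pow_mul]⟩

variable {A : Type*} {G : Type u} [Group A] [Finite A] [Group G] [Finite G] {φ : A →* MulAut G}
  {S B Q : Subgroup G}

theorem two_sc (d : Dat3 φ S) {P K X : Subgroup G} {s : G} (h : F3.Hy 2 S B Q P K X s)
    (hT : IsSylowIn 2 (S ⊓ 𝐍(Q)) 𝐍(Q)) : False := by
  obtain ⟨x, hx, hx'⟩ := SetLike.not_le_iff_exists.1 h.g.nz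
  obtain ⟨b, hb, hb'⟩ := SetLike.not_le_iff_exists.1 h.nle
  have bB := h.X'B hb
  obtain ⟨k, hk, k1⟩ : ∃ k ∈ K, ¬ Commute k ⁅x, b⁆ := by
    by_contra! e
    exact h.g.reg x hx hx' b bB hb' e
  have t := exists_tw hT le_rfl (h.hB.symm ▸ h.st.cfg) (h.g.XQ hx) (h.hB.symm ▸ bB) (h.g.nQ hk) k1
  have uX := conj_mem_of_mem_normalizer (h.nK le_rfl h.XP hk) (F2.cm_mem hx (h.g.nX (h.BT bB)))
  rw [h.hB] at t
  generalize k * ⁅x, b⁆ * k⁻¹ = u at t uX
  generalize ⁅x, b⁆ = z at t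
  have t' := t.map (MulAut.conj s)
  rw [cj_eq_of_mem_normalizer h.st.sB] at t'
  have hn : ¬ 𝐕(Q ^ᶜ s) ≤ Q := cj_omegaOneCenter (p := 2) Q s ▸ h.st.nle
  obtain ⟨e1, e2⟩ := t.pair t' hn
  rw [e1] at t'
  obtain ⟨y, hy⟩ : ∃ y, y = MulAut.conj s u := ⟨_, rfl⟩
  rw [← hy] at t' e2
  have u2 := h.sq uX
  have ui : u⁻¹ = u := inv_eq_of_mul_eq_one_right u2
  have y2 : y * y = 1 := by rw [hy, ← map_mul, u2, map_one]
  have yi : y⁻¹ = y := inv_eq_of_mul_eq_one_right y2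
  have uS := h.XS uX
  have yB : y ∈ B := t'.cfg.QB (oc_le _ t'.mem.1)
  have z1 : z ≠ 1 := fun e => t.ne (by obtain ⟨g, -, e'⟩ := t.orb; rw [← e', e]; group)
  have wi : u * (y * z) = (u * y)⁻¹ := by
    rw [oc_le_cent B t.zZ y yB, ← mul_assoc, oc_le_cent B t.zZ u (h.st.QB (h.XQ uX)), ← e2,
      commutatorElement_def, ui, yi, mul_inv_rev, ui, yi]
    simp [mul_assoc, u2, y2]
  let Γ : Subgroup (MulAut G) :=
    { carrier := {γ | ∀ x, γ x ∈ S ↔ x ∈ S}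
      one_mem' := fun _ => Iff.rfl
      mul_mem' := fun ha hb x => (ha _).trans (hb x)
      inv_mem' := fun {γ} h x => by simpa using (h (γ⁻¹ x)).symm }
  have cS : ∀ g ∈ S, MulAut.conj g ∈ Γ := fun g hg x => (mem_normalizer_iff.1 (le_normalizer hg) x).symm
  have kb : ∀ γ ∈ Γ, ¬ Commute u (γ u) → (u * γ u) ^ 4 = 1 →
      (γ (u * y) = u * y ∨ γ (u * y) = (u * y)⁻¹) ∧ (u * γ u = u * y ∨ u * γ u = (u * y)⁻¹) := by
    intro γ hγ hc h4
    obtain ⟨α, -, hα⟩ := OF.exists_res (fun x hx => (hγ x).2 hx) (pow_orderOf_eq_one γ)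
    have X'S : X ^ᶜ s ≤ S := h.X'B.trans h.BS
    have e3 : (S ⊓ 𝐍(Q)).map γ.toMonoidHom = S ⊓ 𝐍(Q) := eq_of_le_of_card_ge (by
      rintro _ ⟨r, hr, rfl⟩
      have := bk_four h.hS.isP h.bk (u := ⟨u, uS⟩) uX
        (by rw [subgroupOf_cj, cent_sub X'S]; exact fun e => t.mem.2 (h.cB uX e)) α
        (fun l => hc (hα ⟨u, uS⟩ ▸ congrArg Subtype.val l))
        (Subtype.ext (by rw [coe_pow, coe_mul, hα]; exact h4)) (t := ⟨r, hr.1⟩)
        (by rw [← subgroupOf_normalizer_eq h.XS]; exact h.g.nX hr)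
      rw [← subgroupOf_normalizer_eq h.XS, mem_subgroupOf, hα] at this
      exact h.NX ⟨(hγ r).2 hr.1, this⟩) (card_map_of_injective γ.injective).ge
    have e4 : B.map γ.toMonoidHom = B := by rw [← h.hB, H59.MP.map_bau γ.injective, e3]
    have n1 : ¬ 𝐕(Q).map γ.toMonoidHom ≤ Q := fun e =>
      hc (oc_le_cent Q t.mem.1 _ (e (mem_map_of_mem _ t.mem.1))).symm
    refine ⟨(t.w t' hn γ e4).resolve_right fun e => n1 e.1, ?_⟩
    have t1 := t.map γ
    rw [e4] at t1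
    rw [H59.MP.map_oc γ.injective] at n1
    have e5 := t.cfg.uniq t'.cfg t1.cfg (t'.cfg.nle_symm t.cfg hn) (t1.cfg.nle_symm t.cfg n1)
    have e6 : Q.map γ.toMonoidHom = Q ^ᶜ s := by rw [cfg_Q t1.cfg, e5, ← cfg_Q t'.cfg]
    rw [e6] at t1
    exact (t'.uniq t1).2.imp (fun e => by rw [e]) fun e => by rw [e, wi]
  have kc : ∀ γ ∈ Γ, ¬ Commute u (γ u) → γ (u * y) = u * y ∨ γ (u * y) = (u * y)⁻¹ := by
    intro γ hγ hc
    by_cases h4 : (u * γ u) ^ 4 = 1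
    · exact (kb γ hγ hc h4).1
    have vS := mul_mem uS ((hγ u).2 uS)
    obtain ⟨m, hm⟩ := h.hS.isP ⟨_, vS⟩
    obtain ⟨j, g8, g4⟩ := exists_eight m _ (congrArg Subtype.val hm) h4
    have gS := pow_mem vS j
    have v2 : γ u * γ u = 1 := by rw [← map_mul, u2, map_one]
    have vi : (γ u)⁻¹ = γ u := inv_eq_of_mul_eq_one_right v2
    have a1 : u * (u * γ u) ^ j * u⁻¹ = ((u * γ u) ^ j)⁻¹ := by
      rw [← conj_pow, ← inv_pow, mul_inv_rev, ui, vi, ← mul_assoc, u2, one_mul]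
    have a2 : γ u * (u * γ u) ^ j * (γ u)⁻¹ = ((u * γ u) ^ j)⁻¹ := by
      rw [← conj_pow, ← inv_pow, mul_inv_rev, ui, vi, mul_assoc, mul_assoc, v2, mul_one]
    change ((u * γ u) ^ j) ^ 8 = 1 at g8
    change ((u * γ u) ^ j) ^ 4 ≠ 1 at g4
    generalize (u * γ u) ^ j = g at g8 g4 gS a1 a2
    have key : ∀ v : G, v * v = 1 → v * g * v⁻¹ = g⁻¹ →
        v * MulAut.conj g⁻¹ v = g ^ 2 ∧ ¬ Commute v (MulAut.conj g⁻¹ v) := fun v w1 w2 => by
      have w3 : v * MulAut.conj g⁻¹ v = g ^ 2 := by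
        rw [MulAut.conj_apply, ← mul_assoc, ← mul_assoc, ← inv_eq_of_mul_eq_one_right w1, inv_inv g,
          inv_eq_of_mul_eq_one_right w1, pow_two]
        nth_rewrite 2 [← inv_eq_of_mul_eq_one_right w1]
        rw [← conj_inv, w2, inv_inv]
      refine ⟨w3, fun c => g4 ?_⟩
      have w4 := ((Commute.refl v).mul_right c).eq
      rw [w3, ← mul_inv_eq_iff_eq_mul, ← conj_pow, w2, inv_pow, inv_eq_iff_mul_eq_one, ← pow_add] at w4
      exact w4
    obtain ⟨b1, b2⟩ := key u u2 a1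
    obtain ⟨b3, b4⟩ := key _ v2 a2
    have c1 := (kb _ (cS _ (inv_mem gS)) b2 (by rw [b1, ← pow_mul, g8])).2
    have b5 : γ (u * (γ⁻¹ * MulAut.conj g⁻¹ * γ) u) = g ^ 2 := by rw [← b3]; simp
    have c2 := (kb _ (mul_mem (mul_mem (inv_mem hγ) (cS _ (inv_mem gS))) hγ)
      (fun c => b4 (by simpa using c.map γ))
      (γ.injective (by rw [map_pow, b5, ← pow_mul, g8, map_one]))).2
    rw [b1] at c1
    rcases c2 with e | e <;> rw [e] at b5
    · rw [b5]; exact c1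
    · rw [map_inv, inv_eq_iff_eq_inv] at b5
      rw [b5]
      exact c1.symm.imp (fun e => by rw [e, inv_inv]) fun e => by rw [e]
  have nc : ¬ Commute u y := fun c => z1 (by rw [← e2, c.symm.commutator_eq])
  refine d.tr (w := u * y) uS (by rw [mul_inv_rev, yi, ← mul_assoc, u2, one_mul])
    (fun e => nc (by rw [mul_inv_rev, yi, ui] at e; exact e.symm)) fun a => ?_
  have hγ : φ a ∈ Γ := fun x => ⟨fun e => by simpa using d.inv a⁻¹ _ e, d.inv a x⟩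
  by_cases c1 : Commute u (φ a u)
  swap
  · exact .inl (kc _ hγ c1)
  by_cases c2 : Commute u (φ a y)
  · exact .inr (by rw [map_mul]; exact c1.mul_right c2)
  have c3 := kc _ (mul_mem hγ (cS s h.hs)) (by rwa [MulAut.mul_apply, ← hy])
  rw [MulAut.mul_apply] at c3
  rcases kc _ (cS s h.hs) (hy ▸ nc) with e | e <;> rw [e] at c3
  · exact .inl c3
  · rw [map_inv] at c3
    exact .inl (c3.symm.imp inv_injective.eq_iff.1 inv_eq_iff_eq_inv.1)

end H50.AN
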