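import Mathlib
import Cfsg.Agent.Base
import Cfsg.Agent.Lib.Acn.Fd3
import Cfsg.Agent.Lib.Acn.Fls
import Cfsg.Agent.Lib.Acn.TwoS
import Cfsg.Agent.Lib.Fpf.Core2

/-! `W(S)` is strongly closed, for operators coming from an anticentral element. -/

set_option autoImplicit false
set_option linter.unusedSectionVars false
set_option linter.style.haveILetI false

namespace H50.AN

open Subgroup H69 H68.Push H59.MP H68B Cfsg H42 H42.FP
open H1.OA (Cfg)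
open H42.OF (Lf tr_oc tr_J tr_B tr_inc)
open scoped commutatorElement

universe u

local notation "𝐁(" T ")" => baumannSubgroupOf 2 T
local notation "𝐉(" T ")" => thompsonSubgroupOf 2 T
local notation "𝐕(" T ")" => omegaOneCenter 2 T

variable {A : Type*} {G : Type u} [Group A] [Finite A] [Group G] [Finite G]

theorem Tri.image {R H : Type*} [Group R] [Group H] (f : R →* H) {Γ : Set R} (h : Tri Γ) :
    Tri (f '' Γ) := by
  obtain ⟨x, hx, y, hy, e⟩ := h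
  exact ⟨_, ⟨x, hx, rfl⟩, _, ⟨y, hy, rfl⟩, _, e, map_mul f x y⟩

section
variable {φ : A →* MulAut G} {S C X : Subgroup G}

theorem Dat3.le_Mh (d : Dat3 φ S) (hC : C ≤ S) (h1 : X ≤ S) (h2 : X ≠ ⊥) (h3 : S ≤ 𝐍(X))
    (h4 : Iv φ X) : 𝐍(X) ⊓ 𝐍(C) ≤ Mh S C := fun g hg => by
  obtain ⟨m, hm, e⟩ := d.hs X h1 h2 h3 h4 g hg.1
  exact ⟨hg.2, m, hm, fun x hx => e x (hC hx) (hC (conj_mem_of_mem_normalizer hg.2 hx))⟩

theorem Dat3.oc_le_Mh (d : Dat3 φ S) (hS : IsPGroup 2 S) (hC : C ≤ S) :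
    𝐍(omegaOneCenter 2 S) ⊓ 𝐍(C) ≤ Mh S C := by
  by_cases e : S = ⊥
  · rw [le_bot_iff.1 (hC.trans e.le)]
    exact le_top.trans (centralizer_bot.ge.trans cent_le_Mh)
  · exact d.le_Mh hC (oc_le S) (H24.omegaOne_center_ne_bot hS e) (le_normalizer_oc le_normalizer)
      d.inv.oc

end

section

variable {φ : A →* MulAut G} {S C R Y P X : Subgroup G} {H : Type*} [Group H] [Finite H] {f : Y →* H} {j : R →* H}
  {M : Subgroup H}

theorem cV3 (m : Md S C R Y P f j M) (d : Dat3 φ S) (hS : IsPGroup 2 S) (hV : 𝐕(S) ≤ R) :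
    𝐂((𝐕(S).subgroupOf R).map j) ≤ M := fun h hh => by
  obtain ⟨g, rfl⟩ := m.surj h
  exact (m.mem g).2 (d.oc_le_Mh hS (m.CP.trans (m.PR.trans m.RS))
    ⟨(m.norm (m.VP hV) g).1 (centralizer_le_normalizer _ hh), m.YC g.2⟩)

theorem nC3 (m : Md S C R Y P f j M) (d : Dat3 φ S) (hS : IsPGroup 2 S) (hV : 𝐕(S) ≤ R) :
    ¬ ⊤ ≤ 𝐂(𝐕(j.range)) := fun e =>
  m.pm.ne_top (top_le_iff.1 (e.trans ((centralizer_anti (m.V_le hV)).trans (cV3 m d hS hV))))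

theorem nJ3 (m : Md S C R Y P f j M) (n : NP G) (mx : Mx R) (d : Dat3 φ S) (hS : IsSylowIn 2 S ⊤)
    (hV : 𝐕(S) ≤ R) : ¬ ⊤ ≤ 𝐍(𝐉(j.range)) := fun e => by
  have h1 := m.pm.inf_normal (le_normalizer_centralizer (le_normalizer_oc (p := 2) e))
    ((centralizer_anti ((m.V_le hV).trans (oc_le_ocJ _))).trans (cV3 m d hS.isP hV))
  rw [← bau_def, ← tr_B m.lf.ij] at h1
  exact m.nY ((le_inf (m.YP.trans ((mx.bau.mono (m.le_P (bau_le R) h1)).nb n hS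
    (m.PR.trans m.RS))) m.YC).trans (Mh_anti m.CP))

end

theorem np3 (hy : ∀ S : Subgroup G, IsSylowIn 2 S ⊤ → ∃ φ : A →* MulAut G, Dat3 φ S) : NP G :=
  fun S C b hn => by
  obtain ⟨C, ⟨b, hn⟩, hm⟩ := wellFounded_gt.has_min {C | Bad S C ∧ S ≤ 𝐍(C)} ⟨C, b, hn⟩
  have h1 := b.syl.mono hn le_top
  have h2 := b.ext (by rwa [inf_eq_left.2 hn])
  rw [inf_eq_left.2 hn] at h2
  have h3 : S ⊓ 𝐂(C) ≤ C := by
    by_contra e
    exact hm _ h2 (lt_of_le_not_ge le_sup_left fun e1 => e (le_sup_right.trans e1))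
  obtain ⟨Y, P, H, _, _, f, j₀, M, m⟩ := exists_md le_rfl b.le h1 h3
    ((inf_le_inf_right _ (norm_le_ww S)).trans inf_le_Mh) b.nM
  obtain ⟨φ, d⟩ := hy S b.syl
  have cV := cV3 m d b.syl.isP (oc_le S)
  obtain ⟨q, L, pu⟩ := exists_pu m.pm m.chr (nC3 m d b.syl.isP (oc_le S)) fun e => by
    rw [← tr_J m.lf.ij] at e
    exact m.nY ((le_inf (((m.normal_iff (m.le_P (H24.thompsonSubgroupOf_le S) e)).1 e).trans
      (le_normalizer_ww S)) m.YC).trans inf_le_Mh)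
  have BS := bau_le (p := 2) S
  have VB := OF.oc_le_bau (oc_le S) le_rfl
  have iB : Iv φ 𝐁(S) := d.inv.inf d.inv.J.oc.cent
  have l : Lf 𝐁(S).subtype (j₀.comp (inclusion BS)) := m.lf.pre (inclusion_injective BS)
  rw [← tr_B m.lf.ij, ← tr_inc BS le_rfl, subgroupOf_self, ← MonoidHom.range_eq_map] at pu
  rw [← tr_inc BS (VB.trans (oc_le _))] at cV
  set j := j₀.comp (inclusion BS) with hj
  obtain ⟨_, ⟨a₀, rfl⟩, u, u1, u2⟩ := C3.push l.ij pu (H2.subAut φ _ iB).range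
    (V := 𝐕(S).subgroupOf 𝐁(S)) (fun z hz =>
    ⟨Subtype.ext ((oc_ea S).2 _ hz), fun x => Subtype.ext (oc_le_cent S hz _ (BS x.2))⟩)
    (by rintro _ ⟨a, rfl⟩ x hx; exact d.inv.oc a x hx) fun K k1 k2 k3 => by
    have k0 := (map_subtype_le K).trans BS
    have k4 : S ≤ 𝐍(K.map 𝐁(S).subtype) := fun s hs => H24.mem_normalizer_of_conj_mem (by
      rintro _ ⟨x, hx, rfl⟩
      obtain ⟨a, -, e⟩ := d.inn s hs
      exact ⟨_, k2 _ ⟨a, rfl⟩ x hx, e x⟩)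
    rw [← subgroupOf_map_subtype' K, tr_inc BS (map_subtype_le K)] at k3
    have k5 : ⊤ ≤ 𝐍(((K.map 𝐁(S).subtype).subgroupOf S).map j₀) := by
      refine (m.pm.sup_eq_top pu.ne).ge.trans (sup_le k3 ?_)
      rwa [MonoidHom.range_eq_map, le_normalizer_map_iff m.lf.ij, ← normal_iff_top_le_normalizer,
        normal_iff_le_normalizer_map, map_subgroupOf_eq_of_le k0]
    refine m.nY ((le_inf ((m.normal_iff (m.le_P k0 k5)).1 k5) m.YC).trans
      (d.le_Mh b.le k0 (fun e => pu.ne (le_top.trans (le_trans ?_ cV))) k4 ?_))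
    · rw [le_bot_iff.1 (k1.trans (map_subtype_eq_bot_iff.1 e).le), Subgroup.map_bot, centralizer_bot]
    · rintro a _ ⟨x, hx, rfl⟩
      exact ⟨_, k2 _ ⟨a, rfl⟩ x hx, rfl⟩
  set γ := H2.subAut φ _ iB a₀ with hγ
  let e := MonoidHom.ofInjective l.ij
  have c := C3.exists_cfg pu (e.symm.trans (γ.trans e)) (u := e u) u1 (by
    rwa [MulEquiv.trans_apply, e.symm_apply_apply])
  have c0 := c.comap l.ij le_rfl
  rw [MonoidHom.comap_range_self] at c0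
  have ca : ∀ α : MulAut 𝐁(S), Cfg q ⊤ _ (((pCoreOf 2 L).comap j).map α.toMonoidHom)
      (((zz 2 L).comap j).map α.toMonoidHom) := fun α => by
    have := C3.cfg_map (f := α.toMonoidHom) α.injective c0
    rw [map_top_of_surjective _ α.surjective] at this
    rwa [this.Z_eq c0] at this
  have n0 : ¬ ((zz 2 L).comap j).map γ.toMonoidHom ≤ (pCoreOf 2 L).comap j := fun k =>
    u2 (k (mem_map_of_mem _ u1))
  have c' := C3.cfg_map l.ij (ca γ)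
  rw [← MonoidHom.range_eq_map] at c'
  rw [c'.Z_eq c] at c'
  have n1 := mt (fun k => map_le_iff_le_comap.1 k) n0
  obtain ⟨e1, e2⟩ := cfg_oc c c' n1
  have hz : ¬ L ≤ 𝐂(𝐕(j.range)) := fun k => pu.ne (k.trans ((centralizer_anti
    (tr_oc l.ij ▸ map_mono (comap_mono VB))).trans cV))
  obtain ⟨⟨D, fd⟩, hc⟩ := exists_fd pu hz (e1 ▸ e2 ▸ c) (e1 ▸ c') n1
  have gP : Gm ((zz 2 L).comap j) (((zz 2 L).comap j).map γ.toMonoidHom) ⊆ (pCoreOf 2 L).comap j :=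
    fun z hz => c0.XQ (c0.ZX (cfg_gm c0 (ca γ) n0 hz).1)
  have nP : ∀ k ∈ 𝐑(2, L), k ∈ 𝐍(((pCoreOf 2 L).comap j).map j) := fun k hk => by
    rw [map_comap_eq_self pu.Q_le]; exact pu.normQ (map_subtype_le _ hk)
  by_cases hq : q = 2
  · subst hq
    rw [← e2] at fd
    nth_rewrite 1 [← map_comap_eq_self (c.XQ.trans c.QB)] at fd
    rw [← Gm.image l.ij] at fd
    obtain ⟨K, D, fd, -, hK⟩ := lift3 l gP nP fd
    obtain ⟨_, z, hz, rfl⟩ := fd.ne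
    obtain ⟨k, hk, k1⟩ : ∃ k ∈ K, ¬ Commute k (z : G) := by
      by_contra! e
      exact fd.reg _ ⟨z, hz, rfl⟩ e
    obtain ⟨-, x, hx, y, hy, rfl⟩ := hz
    have d0 := C3.cfg_map 𝐁(S).subtype_injective c0
    have d1 := C3.cfg_map 𝐁(S).subtype_injective (ca γ)
    rw [map_subtype_top] at d0 d1
    have n2 := mt (map_le_map_iff_of_injective 𝐁(S).subtype_injective).1 n0
    obtain ⟨f1, f2⟩ := cfg_oc d0 d1 n2
    refine two_np d (exists_tw b.syl le_top (f1 ▸ f2 ▸ d0) (x := x) (b := y)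
      (f2 ▸ mem_map_of_mem _ hx) y.2 (hK _ le_rfl nP k hk) k1) a₀ ?_
    rw [← f2, map_map]
    rwa [map_map] at n2
  obtain ⟨D, fd⟩ := exists_fd3 pu hz (e1 ▸ e2 ▸ c) (e1 ▸ c') n1 hq
  have e0 := Gm.image l.ij ((zz 2 L).comap j) (((zz 2 L).comap j).map γ.toMonoidHom)
  rw [map_comap_eq_self (c.XQ.trans c.QB)] at e0
  rw [← e2, ← e0] at fd
  obtain ⟨K, D, fd, hK, hK'⟩ := lift3 l gP (fun k hk => nP k hk.1) fd
  replace hK' := hK' _ ((closure_le _).2 gP) fun k hk => MonoidHom.map_closure j _ ▸ hk.2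
  rw [MonoidHom.map_closure] at hK'
  refine false3 d.ac fd hK' ((cfg_tri c0 (ca γ) n0 hq).image _) fun a => ?_
  have e3 : ∀ Ω : Set 𝐁(S), φ a '' (𝐁(S).subtype '' Ω) =
      𝐁(S).subtype '' ((H2.subAut φ _ iB a).toMonoidHom '' Ω) := fun Ω => by
    rw [Set.image_image, Set.image_image]; rfl
  rw [e3, Gm.image (H2.subAut φ _ iB a).injective, map_map]
  refine (cfg_dich c0 (ca γ) n0 (ca (H2.subAut φ _ iB a)) (ca (H2.subAut φ _ iB a * γ)) fun k =>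
    n0 ?_).imp (congrArg _) ?_
  · rwa [← map_le_map_iff_of_injective (f := (H2.subAut φ _ iB a).toMonoidHom)
      (H2.subAut φ _ iB a).injective, map_map]
  · rintro ⟨k1, k2⟩
    refine ⟨?_, ?_⟩
    · rintro _ ⟨_, ⟨-, x, hx, y, hy, rfl⟩, rfl⟩
      refine hK _ (commutator_le_of_le k1 k2 (commutator_mem_commutator hx hy)) ?_
      rw [map_commutatorElement]
      exact cm_cent (oc_le _) (le_cent_oc _) (fun k hk => hc k hk.1) (k1 hx) (k2 hy)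
    · rintro _ ⟨x, hx, rfl⟩ _ ⟨y, -, rfl⟩
      exact (congrArg Subtype.val (((c0.Z_iff x).1 (cfg_gm c0 (ca γ) n0 hx).1).2.2
        (H2.subAut φ _ iB a y) (mem_top _))).symm

theorem not_norm3 {S C Y P K : Subgroup G} {H : Type*} [Group H] [Finite H] {f : Y →* H}
    {j : (S ⊓ 𝐍(C) : Subgroup G) →* H} {M : Subgroup H} {φ : A →* MulAut G}
    (m : Md S C (S ⊓ 𝐍(C)) Y P f j M) (n : NP G) (mx : Mx (S ⊓ 𝐍(C))) (d : Dat3 φ S)
    (hS : IsSylowIn 2 S ⊤) (PC : P ≤ C) (hV : 𝐕(S) ≤ K) (hK : K ≤ P) (k2 : Y ≤ 𝐍(K))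
    (k3 : 𝐍(K) ≤ Mh S K) : False := by
  have VR := hV.trans (hK.trans m.PR)
  have k0 : ww S ⊓ K ≤ P := inf_le_right.trans hK
  have k4 := (m.normal_iff k0).2 fun g hg => Mh.norm_inf (k3 (k2 hg))
  haveI := normal_iff_top_le_normalizer.2 (m.pm.inf_normal (le_normalizer_centralizer k4)
    ((centralizer_anti (map_mono (comap_mono (le_inf (oc_le_ww S) hV)))).trans (cV3 m d hS.isP VR)))
  have k5 : S ⊓ 𝐍(C) ⊓ 𝐂(ww S) ≤ P := (m.le_P_iff inf_le_left).1 (le_trans (by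
    rintro _ ⟨x, hx, rfl⟩
    exact ⟨⟨x, rfl⟩, m.fj x ⟨x, m.RY x.2⟩ rfl ▸ (m.cent k0 _).2
      (centralizer_anti inf_le_left hx.2)⟩) (H1.le_pCore (m.pm.syl.isP.to_le inf_le_left)))
  have CS := m.CP.trans (m.PR.trans m.RS)
  have k6 : ww S ≤ C := by
    by_contra e
    refine (lt_inf_normalizer_of_lt (hS.isP.to_le (sup_le CS (ww_le S))) (lt_of_le_not_ge
      le_sup_left fun e1 => e (le_sup_right.trans e1))).not_ge ?_
    rw [dedekind_right (CS.trans (le_normalizer.trans (norm_le_ww S))) le_normalizer]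
    exact sup_le le_rfl ((le_inf (inf_le_inf_right _ (ww_le S))
      (inf_le_left.trans (H24.EA.le_centralizer (ww_ea S)))).trans (k5.trans PC))
  have k7 : 𝐉(S ⊓ 𝐍(C)) ≤ P := H24.thompsonSubgroupOf_le_iff.2 fun E hE =>
    (le_inf hE.1 (d.vg E (hE.1.trans inf_le_left) hE.2.1
      ((off_le hE (ww_ea S) (k6.trans (m.CP.trans m.PR))).trans (by omega)))).trans k5
  refine nJ3 m n mx d hS VR (tr_J m.lf.ij ▸ (m.normal_iff k7).2 ?_)
  rw [← H24.thompsonSubgroupOf_eq_of_le k7 m.PR]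
  exact m.YP.trans (H24.normalizer_le_normalizer_thompsonSubgroupOf P)

theorem stage13 (hy : ∀ S : Subgroup G, IsSylowIn 2 S ⊤ → ∃ φ : A →* MulAut G, Dat3 φ S)
    {S C : Subgroup G} (b : Bad S C) : ∃ (S B Q : Subgroup G) (q : ℕ) (s : G), Bad S Q ∧ Mx B ∧
      𝐁(B) = B ∧ B ≤ S ∧ St q B Q s := by
  have n := np3 hy
  obtain ⟨S, C, b, mx, hR, -, hm⟩ := exists_ext n b
  have CR : C ≤ S ⊓ 𝐍(C) := le_inf b.le le_normalizer
  obtain ⟨Y, P, H, _, _, f, j₀, M, m⟩ := exists_md inf_le_left CR hR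
    (le_sup_right.trans (hm _ (b.ext hR).1 le_sup_left (b.ext hR).2))
    ((inf_le_inf_right _ (mx.nb n b.syl inf_le_left)).trans (Mh_anti CR)) b.nM
  have PC := hm P ⟨b.syl, m.PR.trans m.RS, fun e => m.nY
    ((le_inf (m.YP.trans e) m.YC).trans (Mh_anti m.CP))⟩ m.CP (m.RY.trans m.YP)
  obtain ⟨φ, d⟩ := hy S b.syl
  have VR : 𝐕(S) ≤ S ⊓ 𝐍(C) := le_inf (oc_le S) (le_normalizer_of_le_centralizer
    ((oc_le_cent S).trans (centralizer_anti b.le)))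
  obtain ⟨q, L, pu⟩ := exists_pu m.pm m.chr (nC3 m d b.syl.isP VR) (nJ3 m n mx d b.syl VR)
  have BR := bau_le (p := 2) (S ⊓ 𝐍(C))
  have VB := OF.oc_le_bau VR m.RS
  have l : Lf 𝐁(S ⊓ 𝐍(C)).subtype (j₀.comp (inclusion BR)) := m.lf.pre (inclusion_injective BR)
  rw [← tr_B m.lf.ij, ← tr_inc BR le_rfl, subgroupOf_self, ← MonoidHom.range_eq_map] at pu
  obtain ⟨s, hs, st⟩ := push_st (N := S ⊓ 𝐍(𝐁(S ⊓ 𝐍(C)))) l.ij pu inf_le_right VB
    (inf_le_left.trans (le_normalizer_oc le_normalizer)) fun K k1 k2 k3 k4 => by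
    rw [tr_inc BR k2] at k4
    have k5 : ⊤ ≤ 𝐍((K.subgroupOf (S ⊓ 𝐍(C))).map j₀) := by
      refine (m.pm.sup_eq_top pu.ne).ge.trans (sup_le k4 ?_)
      rw [MonoidHom.range_eq_map, le_normalizer_map_iff m.lf.ij, ← normal_iff_top_le_normalizer,
        normal_iff_le_normalizer_map, map_subgroupOf_eq_of_le (k2.trans BR)]
      exact (le_inf m.RS (le_normalizer_bau _)).trans k3
    have k6 := m.le_P (k2.trans BR) k5
    refine not_norm3 m n mx d b.syl PC k1 k6 ((m.normal_iff k6).1 k5) ?_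
    by_contra e
    exact mx.cl n ⟨b.syl, k2.trans (BR.trans m.RS), e⟩ m.RS k3
  refine ⟨S, _, _, q, s, ⟨b.syl, st.QB.trans (BR.trans m.RS), fun e => pu.ne ?_⟩, mx.bau,
    bau_bau _, BR.trans m.RS, st⟩
  refine le_trans (pu.le_centralizer_of_normal (ncl_le_iff.2 fun h hh w hw => ?_)
    (le_normalizer_ncl _ L)) ((centralizer_anti (le_ncl _ L)).trans (cV3 m d b.syl.isP VR))
  rw [← tr_inc BR (VB.trans (oc_le _))] at hw
  obtain ⟨_, ⟨v, hv, rfl⟩, rfl⟩ := mem_cj'.1 hw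
  obtain ⟨g, hg, e1⟩ := l.exists_norm (K := (pCoreOf 2 L).comap _) (h := h)
    (by rw [map_comap_eq_self pu.Q_le]; exact pu.normQ hh)
  have v1 := st.ZX (VB hv)
  have v2 := (mem_map_iff_mem (subtype_injective _)).1 (oc_le _ v1)
  obtain ⟨y, hy⟩ := pu.Q_le (conj_mem_of_mem_normalizer (pu.normQ hh) v2)
  have y1 := st.noW (H24.EA.le_centralizer (ww_ea S)) (norm_le_ww S (le_normalizer hs.1))
    (x := g * v * g⁻¹) ⟨(conj_mem_of_mem_normalizer (Mh.norm_inf (e hg))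
      ⟨oc_le_ww S hv, oc_le _ v1⟩).1, conj_mem_of_mem_normalizer (le_normalizer_oc le_rfl hg) v1⟩
  rw [← show (y : G) = g * v * g⁻¹ from e1 v v2 y hy] at y1
  rw [← hy]
  rintro _ ⟨x, rfl⟩
  rw [← map_mul, ← map_mul]
  exact congrArg _ (Subtype.ext (y1 x x.2))

theorem md_fd3 {S Q T Y P : Subgroup G} {H : Type u} [Group H] [Finite H] {f : Y →* H}
    {j : T →* H} {M : Subgroup H} (m : Md S Q T Y P f j M) (h1 : 𝐂(𝐕(j.range)) ≤ M)
    (h2 : ¬ ⊤ ≤ 𝐍(𝐉(j.range))) {q : ℕ} {s : G} (st : St q 𝐁(T) Q s) (hq : q ≠ 2) :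
    ∃ K D, Fd (Gm 𝐕(Q) (𝐕(Q) ^ᶜ s)) K D ∧ (∀ a ∈ P, ∀ b ∈ P, ⁅a, b⁆ ∈ centralizer K) ∧
      ∀ k ∈ K, k ∈ 𝐍(closure (Gm 𝐕(Q) (𝐕(Q) ^ᶜ s))) := by
  have h0 : ¬ ⊤ ≤ 𝐂(𝐕(j.range)) := fun e => m.pm.ne_top (top_le_iff.1 (e.trans h1))
  obtain ⟨X, bm⟩ := m.bm h0 h2 st
  obtain ⟨q', L, pu⟩ := exists_pu m.pm m.chr h0 h2
  have BT := bau_le (p := 2) T
  have QT := st.QB.trans BT
  have X'T := (st.XB st.sB).trans BT
  have tr : ∀ {Q W : Subgroup G}, Cfg q 𝐁(T) 𝐕(𝐁(T)) Q W → Cfg q 𝐁(j.range) 𝐕(𝐁(j.range))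
      ((Q.subgroupOf T).map j) ((W.subgroupOf T).map j) := fun c => by
    have := C3.cfg_map m.lf.ij (c.comap T.subtype_injective (by rwa [range_subtype]))
    rwa [comap_subtype, comap_subtype, tr_oc' m.lf.ij BT, tr_B m.lf.ij] at this
  have c := tr st.cfg
  have c' := tr st.cfg'
  rw [tr_oc' m.lf.ij QT] at c
  have nQ := (m.normal_iff m.CP).2 m.YC
  have hz : ¬ L ≤ 𝐂(𝐕(𝐁(j.range))) := fun e => pu.ne (e.trans ((centralizer_anti
    ((oc_le_ocJ _).trans (oc_bau _).ge)).trans h1))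
  have g : GZ 2 q' L 𝐁(j.range) :=
    ⟨⟨M, pu⟩, fun e => hz (pu.le_centralizer_of_normal (oc_le_cent _) e)⟩
  have eQ : pCoreOf 2 L = (Q.subgroupOf T).map j := by
    refine le_antisymm (fun t ht => ?_)
      (H70.le_pCoreOf (pu.isP.to_le c.QB) (c.QB.trans pu.le) (le_top.trans nQ))
    obtain ⟨x, hx, hx'⟩ := SetLike.not_le_iff_exists.1 fun e : zz 2 L ≤ 𝐂(𝐁(j.range)) =>
      hz ((pu.le_centralizer_of_normal e g.normZ).trans (centralizer_anti g.Y_le))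
    by_contra e
    exact hx' (oc_le_cent _ (c.reg1 (pu.Q_le ht) e (ncl_le c.ZX
      (le_normalizer_oc (le_top.trans nQ)) (zz_eq pu.syl ▸ hx)) (g.Z_le_cQ hx t ht)))
  obtain rfl : q' = q :=
    Nat.eq_of_mul_eq_mul_right Nat.card_pos (pu.card.symm.trans (eQ ▸ c.cardB))
  obtain ⟨D, fd⟩ := exists_fd3 pu hz (eQ ▸ c) c' (by rw [eQ, F1.bar_le m.lf.ij X'T]; exact st.nle) hq
  rw [eQ, ← tr_oc' m.lf.ij QT, ← Gm.image m.lf.ij] at fd
  have e1 := Gm.image T.subtype_injective (𝐕(Q).subgroupOf T) ((𝐕(Q) ^ᶜ s).subgroupOf T)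
  rw [map_subgroupOf_eq_of_le ((oc_le Q).trans QT), map_subgroupOf_eq_of_le X'T] at e1
  have gP : Gm (𝐕(Q).subgroupOf T) ((𝐕(Q) ^ᶜ s).subgroupOf T) ⊆ P.subgroupOf T := fun z hz =>
    m.CP (oc_le Q (st.ZX (cfg_gm st.cfg st.cfg' st.nle (e1 ▸ Set.mem_image_of_mem _ hz)).1))
  obtain ⟨K, D, fd, hK, hK'⟩ := lift3 m.lf gP (fun k _ => by
    rw [m.core, normalizer_eq_top]; exact mem_top k) fd
  replace hK' := hK' _ ((closure_le _).2 gP) fun k hk => MonoidHom.map_closure j _ ▸ hk.2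
  rw [MonoidHom.map_closure, e1] at hK'
  refine ⟨K, D, e1 ▸ fd, fun a ha b hb => hK ⁅(⟨a, m.PR ha⟩ : T), ⟨b, m.PR hb⟩⁆
    (commutator_le_of_le le_rfl le_rfl (commutator_mem_commutator ha hb)) ?_, hK'⟩
  rw [map_commutatorElement]
  exact cm_cent (bm.XQ.trans ((oc_le _).trans ((m.le_P_iff QT).2 m.CP)))
    (bm.cent.ge.trans inf_le_right) (fun k hk => bm.cm k (res_mono le_top hk.1))
    (m.core ▸ mem_map_of_mem j ha) (m.core ▸ mem_map_of_mem j hb)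

/-- the core for an arbitrary operator group -/
theorem sc3 (hy : ∀ S : Subgroup G, IsSylowIn 2 S ⊤ → ∃ φ : A →* MulAut G, Dat3 φ S)
    {S : Subgroup G} (hS : IsSylowIn 2 S ⊤) : Gold.SC (ww S) ⊤ := by
  refine sc_of_no_bad (fun S C b => ?_) hS
  have n := np3 hy
  obtain ⟨S, B, Q, q, s, b, mx, hB, hS, st⟩ := stage13 hy b
  obtain ⟨S, s, b, hs, st, hT, rfl⟩ := stage2 n b mx hB hS st
  have mx' := mx.mono (bau_le _)
  have QT := st.QB.trans (bau_le _)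
  obtain ⟨Y, P, H, _, _, f, j, M, m⟩ := exists_md inf_le_left QT hT (fun x hx =>
    (cfg_Q st.cfg).ge ⟨⟨hx.1, centralizer_anti ((oc_bau _).ge.trans (st.ZX.trans (oc_le Q))) hx.2⟩,
      centralizer_anti (oc_le Q) hx.2⟩)
    ((inf_le_inf_right _ (mx'.nb n b.syl inf_le_left)).trans (Mh_anti QT)) b.nM
  obtain ⟨φ, d⟩ := hy S b.syl
  have VR : 𝐕(S) ≤ S ⊓ 𝐍(Q) := le_inf (oc_le S) (le_normalizer_of_le_centralizer
    ((oc_le_cent S).trans (centralizer_anti b.le)))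
  have h2 := nJ3 m n mx' d b.syl VR
  obtain ⟨K, X, g, hK⟩ := m.exists_bg (nC3 m d b.syl.isP VR) h2 st
  have h : F3.Hy q S _ Q P K X s := ⟨b.syl, mx, rfl, st, hs, g, fun e => hK ((le_inf
    (le_normalizer_of_le_centralizer (le_centralizer_comm.1 e)) g.nQ).trans
      (d.oc_le_Mh b.syl.isP b.le))⟩
  by_cases hq : q = 2
  · exact two_sc d (hq ▸ h) hT
  obtain ⟨K', D, fd, hc, hn⟩ := md_fd3 m
    ((centralizer_anti (m.V_le VR)).trans (cV3 m d b.syl.isP VR)) h2 st hq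
  have tri := cfg_tri st.cfg st.cfg' st.nle hq
  rw [h.gm] at fd hn tri
  refine false3 d.ac fd hn tri fun a => (h.dich (d.inv a)).imp_right fun e => ⟨?_, fun x hx y hy => ?_⟩
  · rintro _ ⟨z, hz, rfl⟩
    obtain ⟨x, hx, y, hy, e1⟩ := e z hz
    exact e1 ▸ hc x hx y hy
  · obtain ⟨u, hu, v, hv, e1⟩ := e y hy
    exact h.PC (e1 ▸ commutator_le_of_le le_rfl le_rfl (commutator_mem_commutator hu hv)) x
      (h.gm_le hx)

end H50.AN
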