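import Mathlib
import Cfsg.Agent.Base
import Cfsg.Agent.Lib.Acn.Defs
import Cfsg.Agent.Lib.Nsp.C
import Cfsg.Agent.Lib.Fpf.F2

/-! Operators coming from an anticentral element: no small involutions. -/

set_option autoImplicit false
set_option linter.unusedSectionVars false
set_option linter.style.haveILetI false

namespace H50.AN

open Subgroup H69 H68B Cfsg H42.FP H42.FP.P1b H50.NS
open H42.FP.P1a (fix_nc)
open scoped commutatorElement

variable {G : Type*} [Group G] [Finite G] {V X A Z : Subgroup G} {p : ℕ}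

theorem comm_cancel {a b c : G} (h1 : Commute (a * b) c) (h2 : Commute c b) : Commute a c := by
  simpa using h1.mul_left h2.symm.inv_left

theorem trans_le {W : Subgroup G} (hW : Nat.card W ≤ 4) {x : G} (hx : x ∈ 𝐍(W)) (ho : Odd (orderOf x))
    (hf : ∀ w ∈ W, Commute w x → w = 1) {s s' : G} (hs : s ∈ W) (s1 : s ≠ 1) (hs' : s' ∈ W) (s1' : s' ≠ 1) :
    ∃ k : ℕ, x ^ k * s * (x ^ k)⁻¹ = s' := by
  by_contra! hne
  have m : ∀ k : ℕ, x ^ k * s * (x ^ k)⁻¹ ∈ W := fun k => conj_mem_of_mem_normalizer (pow_mem hx k) hs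
  have n1 : ∀ k : ℕ, x ^ k * s * (x ^ k)⁻¹ ≠ 1 := fun k => by simpa using s1
  have n2 : x ^ 0 * s * (x ^ 0)⁻¹ ≠ x ^ 1 * s * (x ^ 1)⁻¹ := fun e => s1 (hf s hs (by
    rw [pow_zero, inv_one, one_mul, mul_one, pow_one, eq_mul_inv_iff_mul_eq] at e; exact e))
  have n3 : x ^ 0 * s * (x ^ 0)⁻¹ ≠ x ^ 2 * s * (x ^ 2)⁻¹ := fun e => s1 (hf s hs (comm_of_sq ho (by
    rw [pow_zero, inv_one, one_mul, mul_one, eq_mul_inv_iff_mul_eq] at e; exact e)))
  have n4 : x ^ 1 * s * (x ^ 1)⁻¹ ≠ x ^ 2 * s * (x ^ 2)⁻¹ := fun e => n2 (by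
    calc _ = x⁻¹ * (x ^ 1 * s * (x ^ 1)⁻¹) * x := by group
      _ = x⁻¹ * (x ^ 2 * s * (x ^ 2)⁻¹) * x := congrArg (fun u => x⁻¹ * u * x) e
      _ = _ := by group)
  let F : Fin 5 → W := ![1, ⟨s', hs'⟩, ⟨_, m 0⟩, ⟨_, m 1⟩, ⟨_, m 2⟩]
  have Fi : Function.Injective F := by
    intro i j e
    replace e := congrArg Subtype.val e
    fin_cases i <;> fin_cases j <;>
      first | rfl | exact absurd e.symm s1' | exact absurd e s1' | exact absurd e.symm (n1 _) | exact absurd e (n1 _)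
            | exact absurd e.symm (hne _) | exact absurd e (hne _) | exact absurd e n2 | exact absurd e.symm n2
            | exact absurd e n3 | exact absurd e.symm n3 | exact absurd e n4 | exact absurd e.symm n4
  have := Nat.card_le_card_of_injective F Fi
  rw [Nat.card_eq_fintype_card, Fintype.card_fin] at this
  omega

theorem M2.no_four (h : M2 V X A) (hp : p.Prime) (p2 : p ≠ 2) (hq : IsPGroup p Z) (hX : X ≤ 𝐍(Z))
    (hZ : Z ≤ X) (hc : Z ≤ 𝐂(Z)) (ho : ∀ d ∈ Z, Odd (orderOf d)) (hA : A ≤ 𝐍(Z))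
    {x : G} (hx : x ∈ Z) : Nat.card (⁅V, zpowers x⁆ : Subgroup G) ≠ 4 := fun h4 => by
  classical
  let ι := {W : Subgroup G // (∃ y ∈ Z, ⁅V, zpowers y⁆ = W) ∧ Nat.card W = 4}
  have := Fintype.ofFinite ι
  choose y hy e using fun i : ι => i.2.1
  have WV : ∀ i : ι, i.1 ≤ V := fun i => e i ▸ W_le h.toM0 (hZ (hy i))
  have nW : ∀ i : ι, ∀ d ∈ Z, d ∈ 𝐍(i.1) := fun i d hd => e i ▸ le_normalizer_commutator (hZ.trans h.nX)
    (le_normalizer_of_le_centralizer fun c hc' g hg => (cz (hc hc' _ (hy i)).symm hg).symm) hd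
  have fp : ∀ i : ι, ∀ w ∈ i.1, Commute w (y i) → w = 1 := fun i w hw =>
    fpf h.toM0 (hZ (hy i)) (ho _ (hy i)) (e i ▸ hw)
  have ind : ∀ i j : ι, j ≠ i → ∀ r ∈ j.1, Commute r (y i) := fun i j hne r hr => by
    by_contra hn
    refine hne (Subtype.ext (eq_of_le_of_card_ge (e i ▸ le_W h.ea (ho _ (hy i)) (WV j) (nW j _ (hy i))
      fun w hw hwc => ?_) (by rw [i.2.2, j.2.2])))
    by_contra w1
    obtain ⟨k, rfl⟩ := trans_four j.2.2 (nW j _ (hy j)) (ho _ (hy j)) (fp j) hw w1 hr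
      (fun e => hn (e ▸ Commute.one_left _))
    have c : Commute (y j ^ k) (y i) := Commute.pow_left (hc (hy i) _ (hy j)) k
    exact hn ((c.mul_left hwc).mul_left c.inv_left)
  choose s hs s1 using fun i : ι => (bot_or_exists_ne_one i.1).resolve_left fun e' => by
    have := i.2.2
    rw [e', card_bot] at this
    omega
  have cm : ((Finset.univ : Finset ι) : Set ι).Pairwise (Function.onFun Commute s) := fun i _ j _ _ =>
    H24.EA.comm h.ea (WV i (hs i)) (WV j (hs j))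
  have h1 := h.n1 p Z hp p2 hq hZ hX hA (Finset.univ.noncommProd s cm) (V.noncommProd_mem _ fun i _ => WV i (hs i)) fun a ha => by
    let τ : ι → ι := fun i => ⟨i.1 ^ᶜ a⁻¹, ⟨a⁻¹ * y i * a⁻¹⁻¹, conj_mem_of_mem_normalizer (hA (inv_mem ha)) (hy i), by
      rw [← e i, cj_commutator, cj_eq_of_mem_normalizer (h.nV (inv_mem ha)), cj_zpowers]⟩, by rw [card_cj, i.2.2]⟩
    obtain ⟨g, hg, k⟩ := tup X (fun i : ι => {w | w ∈ i.1 ∧ w ≠ 1}) (fun i r hr r' hr' => by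
        obtain ⟨k, hk⟩ := trans_four i.2.2 (nW i _ (hy i)) (ho _ (hy i)) (fp i) hr.1 hr.2 hr'.1 hr'.2
        exact ⟨_, pow_mem (hZ (hy i)) k, hk, fun j hj r hr => by
          rw [← ((ind i j hj r hr.1).pow_right k).eq, mul_inv_cancel_right]⟩)
      (s := fun i => a * s (τ i) * a⁻¹) (s' := s)
      (fun i => ⟨by simpa using mem_cj.1 (hs (τ i)), by simpa using s1 (τ i)⟩) fun i => ⟨hs i, s1 i⟩
    refine ⟨g, hg, ?_⟩
    have := fix_nc Finset.univ s cm (g * a)⁻¹ τ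
      (fun i j e => Subtype.ext (by
        have : (i.1 ^ᶜ a⁻¹) ^ᶜ a = (j.1 ^ᶜ a⁻¹) ^ᶜ a := congrArg (fun K : ι => K.1 ^ᶜ a) e
        rwa [cj_inv_cj, cj_inv_cj] at this))
      (fun i _ => Finset.mem_univ _) fun i => by rw [← k i]; group
    rw [mul_assoc, ← this, mul_inv_cancel_left]
  let i : ι := ⟨_, ⟨x, hx, rfl⟩, h4⟩
  rw [← Finset.mul_noncommProd_erase _ (Finset.mem_univ i)] at h1
  refine s1 i (fp i _ (hs i) ?_)
  exact comm_cancel (Commute.symm (h1 _ (hy i))) (Finset.noncommProd_commute _ _ _ _ fun j hj =>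
    (ind i j (Finset.ne_of_mem_erase hj) _ (hs j)).symm)

theorem M2.caseA (h : M2 V X A) (hp : p.Prime) (p2 : p ≠ 2) (hZ : Z ≤ X) (hX : X ≤ 𝐍(Z)) (hA : A ≤ 𝐍(Z))
    (he : ∀ d ∈ Z, d ^ p = 1) (hc : Z ≤ 𝐂(Z)) {t : G} (ht : t ∈ X) (t2 : t * t = 1)
    (t4 : Nat.card V ≤ 4 * Nat.card (V ⊓ centralizer {t} : Subgroup G)) : t ∈ 𝐂(Z) := by
  haveI := Fact.mk hp
  have od : ∀ d ∈ Z, Odd (orderOf d) := fun d hd =>
    (hp.odd_of_ne_two p2).of_dvd_nat (orderOf_dvd_of_pow_eq_one (he d hd))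
  have ti : t⁻¹ = t := inv_eq_of_mul_eq_one_right t2
  have m : ∀ d ∈ Z, d⁻¹ * (t * d * t⁻¹) ∈ Z := fun d hd =>
    mul_mem (inv_mem hd) (conj_mem_of_mem_normalizer (hX ht) hd)
  have iv : ∀ d : G, t * (d⁻¹ * (t * d * t⁻¹)) * t⁻¹ = (d⁻¹ * (t * d * t⁻¹))⁻¹ := fun d => by
    calc _ = t * d⁻¹ * (t * t⁻¹) * (t * d) * (t⁻¹ * t⁻¹) := by group
      _ = _ := by rw [ti, t2]; simp [mul_assoc, ti, ← mul_assoc t t, t2]
  intro d₀ hd₀
  by_contra hn
  have x1 : d₀⁻¹ * (t * d₀ * t⁻¹) ≠ 1 := fun e => hn (by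
    rw [inv_mul_eq_one, eq_mul_inv_iff_mul_eq] at e; exact e)
  have hx := m d₀ hd₀
  have hi := iv d₀
  generalize d₀⁻¹ * (t * d₀ * t⁻¹) = x at x1 hx hi
  obtain ⟨ρ, hρ⟩ := exists_det hc he
  have h1 := hρ ⟨t, hX ht⟩ x hx x1 hi fun d hd => by
    have hy := m d hd
    have hj := iv d
    generalize d⁻¹ * (t * d * t⁻¹) = y at hy hj
    have EZ : zpowers y ⊔ zpowers x ≤ Z := sup_le (zpowers_le.2 hy) (zpowers_le.2 hx)
    have ea := H24.EA.sup (H24.EA.zpowers (he y hy)) (H24.EA.zpowers (he x hx))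
      ((zpowers_le.2 hy).trans (hc.trans (centralizer_anti (zpowers_le.2 hx))))
    by_cases hcy : IsCyclic (zpowers y ⊔ zpowers x : Subgroup G)
    · obtain ⟨g, hg⟩ := hcy.exists_generator
      obtain ⟨i, hi⟩ := hg ⟨y, mem_sup_left (mem_zpowers y)⟩
      obtain ⟨j, hj⟩ := hg ⟨x, mem_sup_right (mem_zpowers x)⟩
      exact zpowers_le.2 (pz hp (he _ (EZ g.2)) ⟨j, congrArg Subtype.val hj⟩ x1) ⟨i, congrArg Subtype.val hi⟩
    exfalso
    have WV := W_le h.toM0 (hZ hx)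
    obtain ⟨a, ha, a1, k⟩ := H2.exists_inf_centralizer_ne_bot (K := ⁅V, zpowers x⁆) ea.1 hcy
      (EZ.trans (le_normalizer_commutator (hZ.trans h.nX) (le_normalizer_of_le_centralizer
        (hc.trans (centralizer_anti (zpowers_le.2 hx))))))
      (IsPGroup.coprime_card_of_ne p 2 p2 _ _ (H24.EA.isPGroup ea) (H24.EA.isPGroup (H24.EA.mono h.ea WV)))
      fun e => x1 (mem_bot.1 (h.faith.le ⟨hZ hx, fun v hv =>
        (le_centralizer_of_commutator_eq_bot e hv x (mem_zpowers x)).symm⟩))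
    obtain ⟨w, hw, w1⟩ := (bot_or_exists_ne_one _).resolve_left k
    have ai : t * a * t⁻¹ = a⁻¹ := by
      obtain ⟨_, ⟨i, rfl⟩, _, ⟨j, rfl⟩, rfl⟩ := (mem_sup_of_le_normalizer_right (le_normalizer_of_le_centralizer
        ((zpowers_le.2 hy).trans (hc.trans (centralizer_anti (zpowers_le.2 hx)))))).1 ha
      rw [← conj_mul, ← conj_zpow, ← conj_zpow, hi, hj, inv_zpow, inv_zpow, ← mul_inv_rev]
      exact congrArg _ (hc (zpow_mem hy i) _ (zpow_mem hx j))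
    have k1 := ((h.card_W ht t2 t4 (hZ (EZ ha)) (od _ (EZ ha)) a1 ai).resolve_left
      (h.no_four hp p2 (fun d => ⟨1, Subtype.ext (by rw [pow_one]; exact he d d.2)⟩) hX hZ hc od hA (EZ ha))).2
    have c : Commute x a := hc (EZ ha) x hx
    have k2 := mem_cs.1 (k1 ⟨WV hw.1, hw.2⟩)
    have k3 := mem_cs.1 (k1 ⟨conj_mem_of_mem_normalizer (h.nX (hZ hx)) (WV hw.1),
      mem_cs.2 ((c.mul_left (mem_cs.1 hw.2)).mul_left c.inv_left)⟩)
    refine w1 (fpf h.toM0 (hZ hx) (od x hx) hw.1 (comm_of_sq (od x hx) ?_))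
    have k4 : x⁻¹ * w * x = x * w * x⁻¹ := by
      calc _ = (t * x * t⁻¹) * (t * w * t⁻¹) * (t * x * t⁻¹)⁻¹ := by
            rw [hi, ← k2.eq, mul_inv_cancel_right, inv_inv]
        _ = t * (x * w * x⁻¹) * t⁻¹ := by group
        _ = _ := by rw [← k3.eq, mul_inv_cancel_right]
    calc w * x ^ 2 = x * (x⁻¹ * w * x) * x := by rw [pow_two]; group
      _ = x ^ 2 * w := by rw [k4, pow_two]; group
  rw [h.hom _ hX hA p ρ t ht, Units.val_one] at h1
  have h2 : ((2 : ℕ) : ZMod p) = 0 := by push_cast; linear_combination h1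
  exact p2 ((Nat.prime_dvd_prime_iff_eq hp Nat.prime_two).1 ((ZMod.natCast_eq_zero_iff 2 p).1 h2))

theorem exists_Y (hV : IsElementaryAbelian 2 V) {s : G} (hs : s ∈ 𝐍(V))
    (t4 : Nat.card V ≤ 4 * Nat.card (V ⊓ centralizer {s} : Subgroup G)) :
    ∃ Y : Subgroup G, Nat.card Y ≤ 4 ∧ ∀ w, w ∈ Y ↔ ∃ v ∈ V, w = ⁅v, s⁆ := by
  have hc := fun (w : V) => conj_mem_of_mem_normalizer hs (inv_mem w.2)
  let f : V →* G := MonoidHom.mk' (fun w => w * (s * (w : G)⁻¹ * s⁻¹)) fun a b => by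
    have h1 := H24.EA.comm hV (mul_mem b.2 (hc b)) (hc a)
    calc ((a * b : V) : G) * (s * ((a * b : V) : G)⁻¹ * s⁻¹)
        = a * (b * (s * (b : G)⁻¹ * s⁻¹) * (s * (a : G)⁻¹ * s⁻¹)) := by rw [Subgroup.coe_mul]; group
      _ = _ := by rw [h1]; group
  have e : ∀ v : V, f v = ⁅(v : G), s⁆ := fun v => by
    change (v : G) * (s * (v : G)⁻¹ * s⁻¹) = _
    rw [commutatorElement_def]; group
  refine ⟨f.range, ?_, fun w => ⟨fun ⟨v, hv⟩ => ⟨v, v.2, hv.symm.trans (e v)⟩,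
    fun ⟨v, hv, k⟩ => ⟨⟨v, hv⟩, (e _).trans k.symm⟩⟩⟩
  have h1 : (V ⊓ centralizer {s}).subgroupOf V ≤ f.ker := fun w hw => by
    rw [MonoidHom.mem_ker, e]
    exact (mem_cs.1 hw.2).commutator_eq
  have h2 := card_le_of_le h1
  rw [Nat.card_congr (subgroupOfEquivOfLe inf_le_left).toEquiv] at h2
  rw [← f.ker.card_mul_index, index_ker, mul_comm] at t4
  exact Nat.le_of_mul_le_mul_right (t4.trans (Nat.mul_le_mul_left _ h2)) Nat.card_pos

theorem M2.m2 (h : M2 V X A) {t : G} (ht : t ∈ X) (t2 : t * t = 1)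
    (t4 : Nat.card V ≤ 4 * Nat.card (V ⊓ centralizer {t} : Subgroup G)) : t = 1 := by
  classical
  by_contra t1
  haveI := h.sol
  have := Fintype.ofFinite G
  obtain ⟨p, hp, p2, D₀, hD₀, h1, h2, h3⟩ := P1c.exists_crit (H := X)
    ((map_eq_bot_iff_of_injective _ X.subtype_injective).1 h.core) (w := ⟨t, ht⟩) (Subtype.ext t2)
    fun e => t1 (congrArg Subtype.val e)
  obtain ⟨D, hD⟩ : ∃ D, D = D₀.map X.subtype := ⟨_, rfl⟩
  have hA : A ≤ 𝐍(D) := hD ▸ H2.le_normalizer_map_subtype_of_characteristic h.nA D₀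
  have c : Cr V X D p := ⟨h.toM0, hp, p2, hD ▸ map_subtype_le D₀,
    hD ▸ H2.le_normalizer_map_subtype_of_characteristic le_normalizer D₀, by
      rw [hD]
      rintro _ ⟨d, hd, rfl⟩
      exact congrArg Subtype.val (h1 d hd), by
      rw [hD]
      rintro _ ⟨a, ha, rfl⟩ _ ⟨b, hb, rfl⟩ _ ⟨c, hc, rfl⟩
      exact (congrArg Subtype.val (h2 (commutator_mem_commutator ha hb) c hc)).symm⟩
  have tD : t ∉ 𝐂(D) := fun e => h3 fun y hy => Subtype.ext (e y (hD ▸ mem_map_of_mem _ hy))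
  have sm : ∀ s ∈ X, s * s = 1 → Nat.card V ≤ 4 * Nat.card (V ⊓ centralizer {s} : Subgroup G) → Sm V X D s :=
    fun s k1 k2 k3 => ⟨k1, k2, k3, fun z hz hc => (h.caseA hp p2 (Z := D ⊓ 𝐂(D)) (inf_le_left.trans c.le)
      (le_normalizer_inf c.nD (le_normalizer_centralizer c.nD)) (le_normalizer_inf hA (le_normalizer_centralizer hA))
      (fun d hd => c.he d hd.1) (inf_le_right.trans (centralizer_anti inf_le_left)) k1 k2 k3 z ⟨hz, hc⟩).symm⟩
  obtain ⟨T, hT, tT⟩ := exists_isSylowIn_le (p := 2) (R := zpowers t)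
    (H24.EA.isPGroup (H24.EA.zpowers (by rw [pow_two, t2]))) (zpowers_le.2 ht)
  let S : Finset G := Finset.univ.filter fun s => s ∈ T ∧ s * s = 1 ∧
    Nat.card V ≤ 4 * Nat.card (V ⊓ centralizer {s} : Subgroup G) ∧ s ∉ 𝐂(D)
  have hS : ∀ s, s ∈ S ↔ s ∈ T ∧ s * s = 1 ∧
    Nat.card V ≤ 4 * Nat.card (V ⊓ centralizer {s} : Subgroup G) ∧ s ∉ 𝐂(D) := fun s => by simp [S]
  have sm' : ∀ s ∈ S, Sm V X D s := fun s hs =>
    sm s (hT.le ((hS s).1 hs).1) ((hS s).1 hs).2.1 ((hS s).1 hs).2.2.1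
  have pr : ∀ s ∈ S, ∀ s' ∈ S, s ≠ s' → ∀ x ∈ D, ∀ y ∈ D, s * x * s⁻¹ = x⁻¹ → s * y * s⁻¹ = y⁻¹ → ⁅x, y⁆ ≠ 1 →
      s' ∈ 𝐂(⁅V, zpowers ⁅x, y⁆⁆) := fun s hs s' hs' hne x hx y hy hi hj z1 => by
    obtain ⟨n, hn⟩ := hT.isP ⟨s * s', mul_mem ((hS s).1 hs).1 ((hS s').1 hs').1⟩
    exact c.pair (sm' s hs) (sm' s' hs') ((hS s').1 hs').2.2.2 (congrArg Subtype.val hn) hx hy hi hj z1 hne
  let ι := {s // s ∈ S}
  choose x hx y hy hi hj z1 using fun i : ι => c.exists_pair (sm' i i.2) ((hS i).1 i.2).2.2.2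
  have zD : ∀ i, ⁅x i, y i⁆ ∈ D := fun i => cm_mem (hx i) (hy i)
  have zs : ∀ i j : ι, Commute (j : G) ⁅x i, y i⁆ := fun i j => (sm' j j.2).cz _ (zD i) (c.zC (hx i) (hy i))
  have dec : ∀ i, ∀ v ∈ V, ∃ n ∈ ⁅V, zpowers ⁅x i, y i⁆⁆, ∃ d ∈ V, Commute d ⁅x i, y i⁆ ∧ v = n * d :=
    fun i v hv => by
    obtain ⟨n, hn, d, hd, e⟩ := H2.exists_commutator_mul_centralizer (zn h.toM0 (c.le (zD i)))
      (copz h.toM0 (c.od (zD i))) (.inl (H2.isSolvable_zpowers _)) (k := v) hv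
    exact ⟨n, hn, d, hd.1, (hd.2 _ (mem_zpowers _)).symm, e⟩
  have fp : ∀ i : ι, ∀ v ∈ V, Commute ⁅v, (i : G)⁆ ⁅x i, y i⁆ → ⁅v, (i : G)⁆ = 1 := fun i v hv e => by
    refine fpf h.toM0 (c.le (zD i)) (c.od (zD i)) ?_ e
    obtain ⟨n, hn, d, hd, k, rfl⟩ := dec i v hv
    rw [P4a.cm1 ((c.key (sm' i i.2) (hx i) (hy i) (hi i) (z1 i)).1 d hd k).2]
    exact F2.cm_mem hn (le_normalizer_commutator (zn h.toM0 (sm' i i.2).mem) (le_normalizer_of_le_centralizer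
      (zpowers_le.2 fun a ha => (cz (zs i i) ha).symm)) (mem_zpowers _))
  have ind : ∀ i j : ι, j ≠ i → ∀ v ∈ V, Commute ⁅v, (j : G)⁆ ⁅x i, y i⁆ := fun i j hne v hv => by
    obtain ⟨n, hn, d, hd, k, rfl⟩ := dec i v hv
    rw [H24.EA.comm h.ea (W_le h.toM0 (c.le (zD i)) hn) hd, P4a.cm1 (pr i i.2 j j.2
      (fun e => hne (Subtype.ext e.symm)) _ (hx i) _ (hy i) (hi i) (hj i) (z1 i) n hn)]
    exact ((k.mul_left (zs i j)).mul_left k.inv_left).mul_left (zs i j).inv_left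
  have ex : ∀ i : ι, ∃ v ∈ V, ⁅v, (i : G)⁆ ≠ 1 := fun i => by
    by_contra! e
    exact ((hS i).1 i.2).2.2.2 (mem_bot.1 (h.faith.le ⟨(sm' i i.2).mem, fun v hv =>
      commutatorElement_eq_one_iff_mul_comm.1 (e v hv)⟩) ▸ one_mem _)
  choose v hv v1 using ex
  have rV : ∀ i : ι, ⁅v i, (i : G)⁆ ∈ V := fun i => F2.cm_mem (hv i) (h.nX (sm' i i.2).mem)
  have cm : ((Finset.univ : Finset ι) : Set ι).Pairwise (Function.onFun Commute fun i => ⁅v i, (i : G)⁆) :=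
    fun i _ j _ _ => H24.EA.comm h.ea (rV i) (rV j)
  haveI := Fact.mk hp
  have h4 := h.n1 p (D ⊓ 𝐂(D)) hp p2 (fun d => ⟨1, Subtype.ext (by rw [pow_one]; exact c.he d d.2.1)⟩)
    (inf_le_left.trans c.le) (le_normalizer_inf c.nD (le_normalizer_centralizer c.nD))
    (le_normalizer_inf hA (le_normalizer_centralizer hA)) (Finset.univ.noncommProd _ cm)
    (V.noncommProd_mem _ fun i _ => rV i) fun a ha => by
      obtain ⟨g, hg, b, hb, e⟩ := hT.frattini (h.nA ha)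
      have e' : g⁻¹ * a = b := by rw [e, inv_mul_cancel_left]
      have bV : b ∈ 𝐍(V) := e' ▸ mul_mem (h.nX (inv_mem hg)) (h.nV ha)
      have bD : b ∈ 𝐍(D) := e' ▸ mul_mem (c.nD (inv_mem hg)) (hA ha)
      let τ : ι → ι := fun i => ⟨b⁻¹ * i * b⁻¹⁻¹, by
        obtain ⟨k1, k2, k3, k4⟩ := (hS i).1 i.2
        refine (hS _).2 ⟨conj_mem_of_mem_normalizer (inv_mem hb) k1,
          by rw [conj_mul, k2, mul_one, mul_inv_cancel], ?_, fun e => k4 (by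
            simpa [mul_assoc] using conj_mem_of_mem_normalizer (le_normalizer_centralizer le_rfl bD) e)⟩
        rwa [← cj_centralizer_singleton, ← cj_eq_of_mem_normalizer (inv_mem bV), ← cj_inf, card_cj, card_cj]⟩
      obtain ⟨k, hk, e1⟩ := tup X (fun i : ι => {w | w ≠ 1 ∧ ∃ v ∈ V, w = ⁅v, (i : G)⁆}) (fun i r hr r' hr' => by
          obtain ⟨Y, y1, y2⟩ := exists_Y h.ea (h.nX (sm' i i.2).mem) (sm' i i.2).four
          obtain ⟨k, hk⟩ := trans_le y1 (x := ⁅x i, y i⁆) (H24.mem_normalizer_of_conj_mem fun w hw => by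
              obtain ⟨u, hu, rfl⟩ := (y2 w).1 hw
              refine (y2 _).2 ⟨_, conj_mem_of_mem_normalizer (h.nX (c.le (zD i))) hu, ?_⟩
              rw [conjugate_commutatorElement, ← (zs i i).eq, mul_inv_cancel_right]) (c.od (zD i))
            (fun w hw e => by
              obtain ⟨u, hu, rfl⟩ := (y2 w).1 hw
              exact fp i u hu e) ((y2 r).2 hr.2) hr.1 ((y2 r').2 hr'.2) hr'.1
          refine ⟨_, pow_mem (c.le (zD i)) k, hk, ?_⟩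
          rintro j hj _ ⟨-, u, hu, rfl⟩
          rw [← ((ind i j hj u hu).pow_right k).eq, mul_inv_cancel_right])
        (s := fun i => b * ⁅v (τ i), (τ i : G)⁆ * b⁻¹) (s' := fun i => ⁅v i, (i : G)⁆)
        (fun i => ⟨by simpa using v1 (τ i), _, conj_mem_of_mem_normalizer bV (hv (τ i)), by
          rw [conjugate_commutatorElement]
          simp [τ, mul_assoc]⟩) fun i => ⟨v1 i, _, hv i, rfl⟩
      refine ⟨k * g⁻¹, mul_mem hk (inv_mem hg), ?_⟩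
      have := fix_nc Finset.univ _ cm (k * b)⁻¹ τ
        (fun i j e => Subtype.ext ((MulAut.conj b⁻¹).injective (congrArg Subtype.val e)))
        (fun i _ => Finset.mem_univ _) fun i => by rw [← e1 i]; group
      rw [mul_assoc k, e', mul_assoc, ← this, mul_inv_cancel_left]
  let i : ι := ⟨t, (hS t).2 ⟨tT (mem_zpowers t), t2, t4, tD⟩⟩
  rw [← Finset.mul_noncommProd_erase _ (Finset.mem_univ i)] at h4
  refine v1 i (fp i _ (hv i) ?_)
  exact comm_cancel (Commute.symm (h4 _ ⟨zD i, c.zC (hx i) (hy i)⟩))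
    (Finset.noncommProd_commute _ _ _ _ fun j hj => (ind i j (Finset.ne_of_mem_erase hj) _ (hv j)).symm)

end H50.AN
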